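import Groth.Agent.PerfA.PostAbs
import Mathlib.CategoryTheory.Triangulated.Functor

/-!
# Bounds for triangulated functors on bounded objects with cohomology in a given class

If `R : D(A) ⥤ D(B)` is triangulated and `R(M[0]) ∈ D^{≤ c}` for all `M` in `P`, then `R K ∈ D^{≤ b + c}` for
`K ∈ D^{[a, b]}` with all cohomology objects in `P`.
-/

set_option autoImplicit false
universe w w' v v' u u'

open CategoryTheory Category Limits Pretriangulated Triangulated DerivedCategory

namespace K368.BddAmp

open Groth.Agent.PerfA.PostAbs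

variable {A : Type u} [Category.{v} A] [Abelian A] [HasDerivedCategory.{w} A]
  {B : Type u'} [Category.{v'} B] [Abelian B] [HasDerivedCategory.{w'} B]

section

variable (R : DerivedCategory A ⥤ DerivedCategory B) [R.CommShift ℤ]

/-- Shifting the bound on objects placed in degree `0`. -/
lemma isLE_single (M : A) (c n : ℤ) (h : (R.obj ((singleFunctor A 0).obj M)).IsLE c) :
    (R.obj ((singleFunctor A n).obj M)).IsLE (n + c) := by
  have e : R.obj ((singleFunctor A n).obj M) ≅ (R.obj ((singleFunctor A 0).obj M))⟦-n⟧ :=
    R.mapIso (((singleFunctors A).shiftIso (-n) n 0 (by simp)).app M).symm ≪≫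
      (R.commShiftIso (-n)).app _
  have h1 : tt.IsLE ((R.obj ((singleFunctor A 0).obj M))⟦-n⟧) (n + c) :=
    tt.isLE_shift _ c (-n) (n + c) (by omega)
  exact @TStructure.isLE_of_iso _ _ _ _ _ _ _ tt _ _ e.symm (n + c) h1

theorem isLE_of_bounded [R.IsTriangulated] (P : ObjectProperty A) [P.IsClosedUnderIsomorphisms]
    [P.ContainsZero] (c : ℤ)
    (h : ∀ M, P M → (R.obj ((singleFunctor A 0).obj M)).IsLE c) (n : ℕ) :
    ∀ (a b : ℤ) (_ : b < a + n) (K : DerivedCategory A) (_ : K.IsGE a) (_ : K.IsLE b)
      (_ : ∀ i, P ((homologyFunctor A i).obj K)), (R.obj K).IsLE (b + c) := by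
  induction n with
  | zero =>
    intro a b hb K hGE hLE _
    have hK : IsZero K := by
      have : tt.IsGE K (b + 1) := tt.isGE_of_ge K (b + 1) a (by push_cast at hb; omega)
      exact tt.isZero K b (b + 1) (by omega)
    have h1 : IsZero (R.obj K) := R.map_isZero hK
    exact ⟨by
      have := tt.isLE_of_isZero h1 (b + c)
      exact this.le⟩
  | succ n ih =>
    intro a b hb K hGE hLE hP
    have hT := tt.triangleLTGE_distinguished b K
    have hT' := R.map_distinguished _ hT
    have hlt : ((tt.truncLT b).obj K).IsLE (b - 1) := inferInstance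
    have hlt' : ((tt.truncLT b).obj K).IsGE a := by
      rw [isGE_iff]
      intro i hi
      by_cases hib : i < b
      · have := isIso_homology_truncLTι K b i hib
        exact ((isGE_iff K a).1 hGE i hi).of_iso
          (asIso ((homologyFunctor A i).map ((tt.truncLTι b).app K)))
      · exact isZero_of_isLE _ (b - 1) i (by omega)
    have hltP : ∀ i, P ((homologyFunctor A i).obj ((tt.truncLT b).obj K)) := by
      intro i
      by_cases hib : i < b
      · have := isIso_homology_truncLTι K b i hib
        exact P.prop_of_iso (asIso ((homologyFunctor A i).map ((tt.truncLTι b).app K))).symm (hP i)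
      · exact P.prop_of_isZero (isZero_of_isLE _ (b - 1) i (by omega))
    have h1 : (R.obj ((tt.truncLT b).obj K)).IsLE (b + c) := by
      have := ih a (b - 1) (by push_cast at hb; omega) _ hlt' hlt hltP
      exact tt.isLE_of_le _ (b - 1 + c) (b + c) (by omega)
    have hge : ((tt.truncGE b).obj K).IsGE b := inferInstance
    have hge' : ((tt.truncGE b).obj K).IsLE b := by
      rw [isLE_iff]
      intro i hi
      have := isIso_homology_truncGEπ K b i (by omega)
      exact ((isLE_iff K b).1 hLE i hi).of_iso
        (asIso ((homologyFunctor A i).map ((tt.truncGEπ b).app K))).symm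
    obtain ⟨M, ⟨e⟩⟩ := exists_iso_singleFunctor_obj_of_isGE_of_isLE ((tt.truncGE b).obj K) b
    have hM : P M := by
      have := isIso_homology_truncGEπ K b b le_rfl
      exact P.prop_of_iso ((asIso ((homologyFunctor A b).map ((tt.truncGEπ b).app K))) ≪≫
        (homologyFunctor A b).mapIso e ≪≫ ((singleFunctorCompHomologyFunctorIso A b).app M)) (hP b)
    have h3 : (R.obj ((tt.truncGE b).obj K)).IsLE (b + c) :=
      @TStructure.isLE_of_iso _ _ _ _ _ _ _ tt _ _ (R.mapIso e).symm (b + c) (isLE_single R M c b (h M hM))
    exact tt.isLE₂ _ hT' (b + c) h1 h3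

end

end K368.BddAmp
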