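import Groth.Agent.Dual.H352.RelOpc
import Groth.Agent.Models2.TorDimRel
import Groth.Agent.PerfB.FlatPull
import Groth.Agent.Dcoh.TorAmp
import Groth.Agent.Dcoh.AdPull

/-!
# Flat amplitude descends along flat surjective morphisms
-/

set_option autoImplicit false

universe u

open CategoryTheory CategoryTheory.Limits AlgebraicGeometry

attribute [local instance] HasDerivedCategory.standard

namespace K368.AmpDescent

open Groth.Agent Groth.Agent.PerfB.FlatPull

variable {X Y S : Scheme.{u}}

/-- Truncation of a bounded above complex of relatively flat modules with relatively flat opcycles. -/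
theorem hasRelFlatAmplitudeIn_of_opcycles (f : X ⟶ S) (P : CochainComplex X.Modules ℤ) (a b : ℤ)
    (hP0 : ∀ i, b < i → IsZero (P.X i)) (hex : ∀ i, i < a → P.ExactAt i)
    (hPf : ∀ i, FlatMod.IsFlatOver f (P.X i)) (hop : FlatMod.IsFlatOver f (P.opcycles a)) :
    DCoh.HasRelFlatAmplitudeIn f a b (DerivedCategory.Q.obj P) := by
  have hGE : P.IsGE a := by
    rw [CochainComplex.isGE_iff]
    exact hex
  refine ⟨P.truncGE a, ?_, ?_, ⟨(asIso (DerivedCategory.Q.map (P.πTruncGE a))).symm⟩⟩
  · rintro i (hi | hi)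
    · exact CochainComplex.isZero_of_isStrictlyGE _ a i hi
    · rcases lt_trichotomy i a with h | h | h
      · exact CochainComplex.isZero_of_isStrictlyGE _ a i h
      · subst h
        refine IsZero.of_iso ?_ (P.truncGEXIsoOpcycles i)
        exact IsZero.of_epi (P.pOpcycles i) (hP0 i hi)
      · exact IsZero.of_iso (hP0 i hi) (P.truncGEXIso a i h)
  · intro i
    rcases lt_trichotomy i a with h | h | h
    · exact PerfC.RelFlat.isFlatOver_of_isZero f
        (CochainComplex.isZero_of_isStrictlyGE (P.truncGE a) a i h)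
    · subst h
      exact PerfC.RelFlat.isFlatOver_of_iso f (P.truncGEXIsoOpcycles i).symm hop
    · exact PerfC.RelFlat.isFlatOver_of_iso f (P.truncGEXIso a i h).symm (hPf i)

variable (f : X ⟶ Y)

/-- Flatness of modules descends along flat surjective morphisms. -/
theorem isFlat_of_isFlat_pullback [Flat f] [Surjective f] (M : Y.Modules)
    (h : FlatMod.IsFlat ((Scheme.Modules.pullback f).obj M)) : FlatMod.IsFlat M := by
  intro y
  obtain ⟨x, rfl⟩ := f.surjective y
  let _ := Fdesc.PullbackStalk.stalkAlg f x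
  have : Module.Flat (Y.presheaf.stalk (f.base x)) (X.presheaf.stalk x) := flat_stalkMap f x
  have : IsLocalHom (algebraMap (Y.presheaf.stalk (f.base x)) (X.presheaf.stalk x)) :=
    f.toLRSHom.prop x
  have : Module.FaithfullyFlat (Y.presheaf.stalk (f.base x)) (X.presheaf.stalk x) :=
    Module.FaithfullyFlat.of_flat_of_isLocalHom
  have h1 : Module.Flat (X.presheaf.stalk x)
      (((Scheme.Modules.pullback f).obj M).presheaf.stalk x) := h x
  have h2 := Module.Flat.of_linearEquiv (Fdesc.PullbackStalk.stalkPullbackEquiv f M x)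
  exact Module.Flat.of_flat_tensorProduct (Y.presheaf.stalk (f.base x))
    (M.presheaf.stalk (f.base x)) (X.presheaf.stalk x)

theorem hasFlatAmplitudeIn_of_pullback [Flat f] [Surjective f] (E : DCoh.D Y) (a b : ℤ)
    (h : DCoh.HasFlatAmplitudeIn a b ((pullbackD f).obj E)) : DCoh.HasFlatAmplitudeIn a b E := by
  rw [← Models2.TorDimRel.hasFlatAmplitudeIn_iff_rel (𝟙 _)] at h ⊢
  have hE : ∀ i, b < i → IsZero (DCoh.HD E i) := by
    intro i hi
    rw [← isZero_pullback_iff f]
    obtain ⟨E', h1, -, ⟨e'⟩⟩ := h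
    have h2 : IsZero (DCoh.HD ((pullbackD f).obj E) i) := by
      refine IsZero.of_iso ?_ ((DerivedCategory.homologyFunctor _ i).mapIso e'.symm ≪≫
        (DerivedCategory.homologyFunctorFactors _ i).app E')
      change IsZero (E'.homology i)
      rw [← HomologicalComplex.exactAt_iff_isZero_homology]
      exact HomologicalComplex.ExactAt.of_isZero (h1 i (Or.inr hi))
    exact h2.of_iso (HDpullback f E i).symm
  obtain ⟨P, hP, hPf, ⟨e⟩⟩ := Dcoh.TorAmp.exists_flat_rep E b hE
  let P' := ((Scheme.Modules.pullback f).mapHomologicalComplex (ComplexShape.up ℤ)).obj P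
  have e' : DerivedCategory.Q.obj P' ≅ (pullbackD f).obj E :=
    (pullbackDQ f P).symm ≪≫ (pullbackD f).mapIso e
  have hP0 : ∀ i, b < i → IsZero (P.X i) := fun i hi => P.isZero_of_isStrictlyLE b i hi
  have hfl := Dual.H352.RelOpc.isFlatOver_opcycles h P' b
    (fun i hi => (Scheme.Modules.pullback f).map_isZero (hP0 i hi))
    (fun i => (Models2.TorDimRel.isFlatOver_iff (𝟙 _) _).2 (Dcoh.AdPull.isFlat_pullback f _ (hPf i))) e'
  have hex : ∀ i, i < a → P.ExactAt i := by
    intro i hi
    have h3 := Dual.H352.RelOpc.exactAt_of_hasRelFlatAmplitudeIn h P' e' i hi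
    rw [HomologicalComplex.exactAt_iff_isZero_homology] at h3 ⊢
    rw [← isZero_pullback_iff f]
    exact h3.of_iso ((P.sc i).mapHomologyIso (Scheme.Modules.pullback f)).symm
  have hop : FlatMod.IsFlatOver (𝟙 Y) (P.opcycles a) := by
    rw [Models2.TorDimRel.isFlatOver_iff]
    refine isFlat_of_isFlat_pullback f _ ?_
    rw [Models2.TorDimRel.isFlatOver_iff] at hfl
    have e3 : P'.opcycles a ≅ (Scheme.Modules.pullback f).obj (P.opcycles a) :=
      (P.sc a).mapOpcyclesIso (Scheme.Modules.pullback f)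
    rw [← Models2.TorDimRel.isFlatOver_iff (𝟙 _)] at hfl ⊢
    exact PerfC.RelFlat.isFlatOver_of_iso _ e3 hfl
  exact Dual.H352.RelOpc.hasRelFlatAmplitudeIn_of_iso e
    (hasRelFlatAmplitudeIn_of_opcycles (𝟙 Y) P a b hP0 hex
      (fun i => (Models2.TorDimRel.isFlatOver_iff (𝟙 _) _).2 (hPf i)) hop)

end K368.AmpDescent
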