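import Mathlib.CategoryTheory.ObjectProperty.FullSubcategory
import Mathlib.CategoryTheory.Adjunction.Basic
import Mathlib.CategoryTheory.Yoneda

/-!
# Right adjoints of inclusions of full subcategories and adjoint pairs

If `L ⊣ R` are functors between `D` and `C`, `L` maps `Q` to `P`, and the inclusions of `P` and `Q`
have right adjoints, then the comparison `R ∘ coreflect_P ⟶ coreflect_Q ∘ R` is an isomorphism.
-/

set_option autoImplicit false

universe v₁ v₂ u₁ u₂

open CategoryTheory

namespace K368.CoreflectAdj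

variable {C : Type u₁} {D : Type u₂} [Category.{v₁} C] [Category.{v₂} D]
  (P : ObjectProperty C) (Q : ObjectProperty D) {L : D ⥤ C} {R : C ⥤ D}
  {rP : C ⥤ P.FullSubcategory} {rQ : D ⥤ Q.FullSubcategory}

theorem isIso_comparison (adj : L ⊣ R) (aP : P.ι ⊣ rP) (aQ : Q.ι ⊣ rQ)
    (hL : ∀ M, Q M → P (L.obj M)) (K : C) (hR : Q (R.obj (rP.obj K).obj)) :
    IsIso (aQ.homEquiv (⟨R.obj (rP.obj K).obj, hR⟩ : Q.FullSubcategory) (R.obj K)
      (R.map (aP.counit.app K))) := by
  rw [isIso_iff_yoneda_map_bijective]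
  intro M
  have key : ∀ φ : M ⟶ (⟨R.obj (rP.obj K).obj, hR⟩ : Q.FullSubcategory),
      φ ≫ aQ.homEquiv (⟨R.obj (rP.obj K).obj, hR⟩ : Q.FullSubcategory) (R.obj K)
        (R.map (aP.counit.app K)) =
      aQ.homEquiv M (R.obj K) (adj.homEquiv M.obj K
        ((aP.homEquiv (⟨L.obj M.obj, hL _ M.property⟩ : P.FullSubcategory) K).symm
          (P.homMk ((adj.homEquiv M.obj (rP.obj K).obj).symm φ.hom)))) := by
    intro φ
    rw [← Adjunction.homEquiv_naturality_left]
    congr 1
    rw [Adjunction.homEquiv_counit]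
    change φ.hom ≫ R.map (aP.counit.app K) = _
    erw [Adjunction.homEquiv_naturality_right]
    simp
  have hfun : (fun φ : M ⟶ (⟨R.obj (rP.obj K).obj, hR⟩ : Q.FullSubcategory) =>
      φ ≫ aQ.homEquiv (⟨R.obj (rP.obj K).obj, hR⟩ : Q.FullSubcategory) (R.obj K)
        (R.map (aP.counit.app K))) = fun φ => aQ.homEquiv M (R.obj K) (adj.homEquiv M.obj K
        ((aP.homEquiv (⟨L.obj M.obj, hL _ M.property⟩ : P.FullSubcategory) K).symm
          (P.homMk ((adj.homEquiv M.obj (rP.obj K).obj).symm φ.hom)))) := funext key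
  rw [hfun]
  refine (aQ.homEquiv M (R.obj K)).bijective.comp ((adj.homEquiv M.obj K).bijective.comp
    ((Equiv.bijective _).comp ?_))
  constructor
  · intro φ ψ h
    have h' := congrArg (fun x => x.hom) h
    exact ObjectProperty.hom_ext _ ((adj.homEquiv _ _).symm.injective h')
  · intro ψ
    exact ⟨Q.homMk (adj.homEquiv _ _ ψ.hom), by
      ext
      simp⟩

end K368.CoreflectAdj
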