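import Groth.Agent.S0015
import Groth.Agent.PerfA.QCLim
import Groth.Agent.PerfA.HypAdj
import Groth.Agent.PerfA.OpenPush
import Groth.Agent.PerfA.OUTF
import Groth.Agent.PerfA.UnitOU
import Groth.Agent.PerfC.ExtZeroD
import Groth.Agent.PerfC.RpushBound
import Groth.Agent.PerfC.RpushTrunc
import Groth.Agent.FMK.K884.HypG
import Groth.Agent.DCoh.K312.MV
import Groth.Agent.LoccohB.DQCohTri
import Mathlib.CategoryTheory.Triangulated.Adjunction

/-!
# Cohomological bounds for the coreflector `D(O_X) ⥤ D_QCoh(O_X)`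
-/

set_option autoImplicit false
universe u
open CategoryTheory CategoryTheory.Limits AlgebraicGeometry Pretriangulated
attribute [local instance] HasDerivedCategory.standard

namespace K368.DQBound

open Groth.Agent.PerfA.ExtZero Groth.Agent.PerfA.Hyp1 Groth.Agent.PerfA.Restrict

variable {Y : Scheme.{u}}

/-- Quasi-coherent coreflections. -/
def IsCor {M K : DCoh.D Y} (c : M ⟶ K) : Prop :=
  DCoh.IsQCohD M ∧ ∀ Q : DCoh.D Y, DCoh.IsQCohD Q → Function.Bijective (fun φ : Q ⟶ M => φ ≫ c)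

lemma nonempty_iso {M M' K : DCoh.D Y} {c : M ⟶ K} {c' : M' ⟶ K} (h : IsCor c) (h' : IsCor c') :
    Nonempty (M ≅ M') := by
  obtain ⟨φ, hφ⟩ := (h'.2 M h.1).2 c
  obtain ⟨ψ, hψ⟩ := (h.2 M' h'.1).2 c'
  dsimp only at hφ hψ
  refine ⟨⟨φ, ψ, (h.2 M h.1).1 ?_, (h'.2 M' h'.1).1 ?_⟩⟩
  · change (φ ≫ ψ) ≫ c = 𝟙 _ ≫ c
    rw [Category.assoc, hψ, hφ, Category.id_comp]
  · change (ψ ≫ φ) ≫ c' = 𝟙 _ ≫ c'
    rw [Category.assoc, hφ, hψ, Category.id_comp]

lemma isCor_counit {R : DCoh.D Y ⥤ DCoh.DQCoh Y}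
    (adj : (ObjectProperty.ι (DCoh.IsQCohD (X := Y))) ⊣ R) (K : DCoh.D Y) :
    IsCor (M := (R.obj K).obj) (adj.counit.app K) := by
  refine ⟨(R.obj K).property, fun Q hQ => ?_⟩
  have key : ∀ φ : Q ⟶ (R.obj K).obj, φ ≫ adj.counit.app K =
      (adj.homEquiv (⟨Q, hQ⟩ : DCoh.DQCoh Y) K).symm
        (ObjectProperty.homMk (P := DCoh.IsQCohD (X := Y)) φ) := by
    intro φ
    rw [Adjunction.homEquiv_counit]
    rfl
  have hfun : (fun φ : Q ⟶ (R.obj K).obj => φ ≫ adj.counit.app K) = fun φ =>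
      (adj.homEquiv (⟨Q, hQ⟩ : DCoh.DQCoh Y) K).symm
        (ObjectProperty.homMk (P := DCoh.IsQCohD (X := Y)) φ) := funext key
  rw [hfun]
  refine (Equiv.bijective _).comp ⟨fun φ ψ h => ?_, fun ψ => ⟨ψ.hom, ?_⟩⟩
  · exact congrArg (fun x => x.hom) h
  · rfl

lemma isCor_push {V : Scheme.{u}} (j : V ⟶ Y) [IsOpenImmersion j] [QuasiCompact j]
    [DCoh.HasRpush j] {M L : DCoh.D V} {c : M ⟶ L} (h : IsCor c) :
    IsCor ((DCoh.Rpush j).map c) := by
  refine ⟨Groth.Agent.PerfA.HypAdj.isQCohD_Rpush j h.1, fun Q hQ => ?_⟩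
  have hQ' : DCoh.IsQCohD ((restrictD j).obj Q) := Groth.Agent.PerfA.QCohD.isQCohD_restrictD j hQ
  have key : ∀ φ : Q ⟶ (DCoh.Rpush j).obj M, φ ≫ (DCoh.Rpush j).map c =
      (Groth.Agent.PerfA.OpenPush.restrictRpushAdj j).homEquiv Q L
        (((Groth.Agent.PerfA.OpenPush.restrictRpushAdj j).homEquiv Q M).symm φ ≫ c) := by
    intro φ
    rw [Adjunction.homEquiv_naturality_right, Equiv.apply_symm_apply]
  have hfun : (fun φ : Q ⟶ (DCoh.Rpush j).obj M => φ ≫ (DCoh.Rpush j).map c) = fun φ =>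
      (Groth.Agent.PerfA.OpenPush.restrictRpushAdj j).homEquiv Q L
        (((Groth.Agent.PerfA.OpenPush.restrictRpushAdj j).homEquiv Q M).symm φ ≫ c) := funext key
  rw [hfun]
  exact (Equiv.bijective _).comp ((h.2 _ hQ').comp (Equiv.bijective _))

lemma isCor_iso {M K K' : DCoh.D Y} {c : M ⟶ K} (h : IsCor c) (e : K ≅ K') :
    IsCor (c ≫ e.hom) := by
  refine ⟨h.1, fun Q hQ => ?_⟩
  have hfun : (fun φ : Q ⟶ M => φ ≫ c ≫ e.hom) = (fun ψ : Q ⟶ K => ψ ≫ e.hom) ∘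
      (fun φ : Q ⟶ M => φ ≫ c) := by
    funext φ
    simp
  rw [hfun]
  refine Function.Bijective.comp ⟨fun φ ψ hh => ?_, fun ψ => ⟨ψ ≫ e.inv, ?_⟩⟩ (h.2 Q hQ)
  · exact (cancel_mono e.hom).1 hh
  · simp

section Tri

variable [CompactSpace Y] [QuasiSeparatedSpace Y]

/-- The coreflector, as an endofunctor of `D(O_Y)`, sends distinguished triangles to distinguished triangles. -/
lemma exists_coreflector (Y : Scheme.{u}) [CompactSpace Y] [QuasiSeparatedSpace Y] :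
    ∃ (F : DCoh.D Y ⥤ DCoh.D Y) (_ : F.CommShift ℤ) (_ : F.IsTriangulated) (γ : F ⟶ 𝟭 _),
      ∀ K : DCoh.D Y, IsCor (γ.app K) := by
  have := Groth.Agent.PerfA.QCLim.isLeftAdjoint_ι Y
  let ι := ObjectProperty.ι (DCoh.IsQCohD (X := Y))
  let adj := Adjunction.ofIsLeftAdjoint ι
  let _ := adj.rightAdjointCommShift ℤ
  have := adj.commShift_of_leftAdjoint ℤ
  have := adj.isTriangulated_rightAdjoint
  exact ⟨ι.rightAdjoint ⋙ ι, inferInstance, inferInstance, adj.counit, fun K => isCor_counit adj K⟩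

/-- Vanishing of the cohomology of a coreflection, from a triangle `K ⟶ A ⊞ B ⟶ C ⟶`. -/
theorem isZero_HD_of_triangle {K A B C : DCoh.D Y}
    (hT : ∃ (a : K ⟶ A ⊞ B) (b : A ⊞ B ⟶ C) (c : C ⟶ K⟦(1 : ℤ)⟧),
      Triangle.mk a b c ∈ distTriang (DCoh.D Y))
    {M M₁ M₂ M₃ : DCoh.D Y} {m : M ⟶ K} {m₁ : M₁ ⟶ A} {m₂ : M₂ ⟶ B} {m₃ : M₃ ⟶ C}
    (h : IsCor m) (h₁ : IsCor m₁) (h₂ : IsCor m₂) (h₃ : IsCor m₃) (i : ℤ)
    (z₁ : IsZero (DCoh.HD M₁ i)) (z₂ : IsZero (DCoh.HD M₂ i)) (z₃ : IsZero (DCoh.HD M₃ (i - 1))) :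
    IsZero (DCoh.HD M i) := by
  obtain ⟨F, hF, hF', γ, hγ⟩ := exists_coreflector Y
  obtain ⟨a, b, c, hT⟩ := K312.MV.exists_map F hT (Iso.refl _) (Iso.refl _) (Iso.refl _) (Iso.refl _)
  obtain ⟨e⟩ := nonempty_iso h (hγ K)
  obtain ⟨e₁⟩ := nonempty_iso h₁ (hγ A)
  obtain ⟨e₂⟩ := nonempty_iso h₂ (hγ B)
  obtain ⟨e₃⟩ := nonempty_iso h₃ (hγ C)
  have w₁ : IsZero (DCoh.HD (F.obj A) i) := z₁.of_iso ((DerivedCategory.homologyFunctor _ i).mapIso e₁.symm)
  have w₂ : IsZero (DCoh.HD (F.obj B) i) := z₂.of_iso ((DerivedCategory.homologyFunctor _ i).mapIso e₂.symm)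
  have w₃ : IsZero (DCoh.HD (F.obj C) (i - 1)) :=
    z₃.of_iso ((DerivedCategory.homologyFunctor _ (i - 1)).mapIso e₃.symm)
  have : PreservesBinaryBiproducts (DerivedCategory.homologyFunctor Y.Modules i) :=
    preservesBinaryBiproducts_of_preservesBiproducts _
  have w₁₂ : IsZero (DCoh.HD (F.obj A ⊞ F.obj B) i) :=
    ((biprod_isZero_iff _ _).2 ⟨w₁, w₂⟩).of_iso ((DerivedCategory.homologyFunctor Y.Modules i).mapBiprod _ _)
  have hex := DerivedCategory.HomologySequence.exact₁ _ hT (i - 1) i (by ring)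
  have := hex.isZero_of_both_zeros (w₃.eq_of_src _ _) (w₁₂.eq_of_tgt _ _)
  exact this.of_iso ((DerivedCategory.homologyFunctor _ i).mapIso e)

end Tri

/-- Vanishing of the cohomology over all affine opens outside `[a, b]`. -/
def Hyp (K : DCoh.D Y) (a b : ℤ) : Prop :=
  ∀ U : Y.Opens, IsAffineOpen U → ∀ i : ℤ, (i < a ∨ b < i) → ∀ φ : P i U ⟶ K, φ = 0

/-- `P i (range of j)` is the extension by zero of `O[-i]`. -/
noncomputable def isoP {Z : Scheme.{u}} (j : Z ⟶ Y) [IsOpenImmersion j] (i : ℤ) :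
    P i j.opensRange ≅ (Groth.Agent.PerfC.ExtZeroD.shriekD j).obj
      ((DerivedCategory.singleFunctor Z.Modules i).obj (Coh.structureModule Z)) :=
  (DerivedCategory.singleFunctor Y.Modules i).mapIso
      (Groth.Agent.PerfA.OUTF.isoShriekOfOpenImmersion j) ≪≫
    (((Groth.Agent.PerfC.ExtZero.jShriek j).mapDerivedCategorySingleFunctor i).app _).symm

/-- Vanishing of `H^i(j(Z), K)` in terms of the restriction of `K` to `Z`. -/
lemma forall_iff {Z : Scheme.{u}} (j : Z ⟶ Y) [IsOpenImmersion j] (i : ℤ) (K : DCoh.D Y) :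
    (∀ φ : P i j.opensRange ⟶ K, φ = 0) ↔
      ∀ φ : (DerivedCategory.singleFunctor Z.Modules i).obj (Coh.structureModule Z) ⟶
        (restrictD j).obj K, φ = 0 := by
  let adj := Groth.Agent.PerfC.ExtZeroD.adjunction j
  constructor
  · intro h φ
    have h1 : (adj.homEquiv _ _).symm φ = 0 := by
      rw [← cancel_epi (isoP j i).hom, comp_zero]
      exact h _
    have h2 := congrArg (adj.homEquiv _ _) h1
    rw [Equiv.apply_symm_apply, Adjunction.homEquiv_unit, CategoryTheory.Functor.map_zero, comp_zero] at h2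
    exact h2
  · intro h φ
    have h1 : adj.homEquiv _ _ ((isoP j i).inv ≫ φ) = 0 := h _
    have h2 := congrArg (adj.homEquiv _ _).symm h1
    rw [Equiv.symm_apply_apply, Adjunction.homEquiv_counit, CategoryTheory.Functor.map_zero, zero_comp] at h2
    rw [← cancel_epi (isoP j i).inv, comp_zero]
    exact h2

/-- Replacing the test object by an isomorphic one. -/
lemma forall_congr_iso {A A' K K' : DCoh.D Y} (e : A ≅ A') (e' : K ≅ K') :
    (∀ φ : A ⟶ K, φ = 0) ↔ ∀ φ : A' ⟶ K', φ = 0 := by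
  constructor
  · intro h φ
    rw [← cancel_epi e.hom, ← cancel_mono e'.inv, comp_zero, zero_comp]
    exact h _
  · intro h φ
    rw [← cancel_epi e.inv, ← cancel_mono e'.hom, comp_zero, zero_comp]
    exact h _

lemma hyp_restrict {V : Scheme.{u}} (k : V ⟶ Y) [IsOpenImmersion k] {K : DCoh.D Y} {a b : ℤ}
    (h : Hyp K a b) : Hyp ((restrictD k).obj K) a b := by
  intro U hU i hi
  have h1 := (forall_iff (U.ι ≫ k) i K).1 (h _ (by
    have : IsAffine U := hU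
    exact isAffineOpen_opensRange _) i hi)
  have h2 := (forall_congr_iso (Iso.refl _)
    ((Groth.Agent.PerfA.PerfLocal.restrictDComp U.ι k).app K)).2 h1
  have h3 := (forall_iff U.ι i ((restrictD k).obj K)).2 h2
  intro φ
  have e : U.ι.opensRange = U := Scheme.Opens.opensRange_ι U
  revert φ
  rw [← e]
  exact h3

lemma hyp_of_RΓ [∀ U : Y.Opens, DCoh.HasRΓ (U : Scheme.{u})] {K : DCoh.D Y} {a b : ℤ}
    (h : ∀ U : Y.Opens, IsAffineOpen U → ∀ i : ℤ, (i < a ∨ b < i) →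
        IsZero ((DerivedCategory.homologyFunctor AddCommGrpCat.{u} i).obj
          ((DCoh.RΓ (U : Scheme.{u})).obj ((DCoh.restrictD U.ι).obj K)))) : Hyp K a b := by
  intro U hU i hi
  have h1 := (K884.HypG.isZero_RΓ_iff _ i).1 (h U hU i hi)
  have h2 := (forall_congr_iso ((DerivedCategory.singleFunctor _ i).mapIso
    (Groth.Agent.PerfA.UnitOU.unitIsoOU (X := (U : Scheme.{u})))) (Iso.refl _)).2 h1
  have h3 := (forall_iff U.ι i K).2 h2
  have e : U.ι.opensRange = U := Scheme.Opens.opensRange_ι U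
  rw [← e]
  exact h3

/-- The affine case. -/
lemma isZero_HD_affine [IsAffine Y] {K M : DCoh.D Y} {a b : ℤ} (hK : Hyp K a b) {c : M ⟶ K}
    (hc : IsCor c) (i : ℤ) (hi : i < a ∨ b < i) : IsZero (DCoh.HD M i) := by
  have := K884.RGam.hasRΓ Y
  rw [← K884.HypG.isZero_RΓ_iff_HD M hc.1 i, K884.HypG.isZero_RΓ_iff]
  intro φ
  have hP : DCoh.IsQCohD (P i (⊤ : Y.Opens)) :=
    (DCoh.IsQCohD (X := Y)).prop_of_iso ((DerivedCategory.singleFunctor _ i).mapIso
      (Groth.Agent.PerfA.UnitOU.unitIsoOU (X := Y)))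
      (Groth.Agent.PerfA.QCohD.isQCohD_single _ (Groth.Agent.PerfA.QCohSerre.isQCoh_unit Y) i)
  apply (hc.2 _ hP).1
  change φ ≫ c = 0 ≫ c
  rw [zero_comp]
  exact hK ⊤ (isAffineOpen_top Y) i hi _

/-- The statement proved by induction. -/
def Q (Z : Scheme.{u}) : Prop := ∃ N : ℕ, ∀ (K : DCoh.D Z) (a b : ℤ), Hyp K a b →
  ∀ (M : DCoh.D Z) (c : M ⟶ K), IsCor c → ∀ i : ℤ, (i < a ∨ b + (N : ℤ) < i) → IsZero (DCoh.HD M i)

/-- Bounds for `Rj_*` on both sides. -/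
lemma exists_bound_push {V : Scheme.{u}} (j : V ⟶ Y) [IsOpenImmersion j] [QuasiCompact j]
    [CompactSpace Y] [DCoh.HasRpush j] : ∃ N : ℕ, ∀ (M : DCoh.D V) (a b : ℤ), DCoh.IsQCohD M →
      (∀ i : ℤ, (i < a ∨ b < i) → IsZero (DCoh.HD M i)) →
      ∀ i : ℤ, (i < a ∨ b + (N : ℤ) < i) → IsZero (DCoh.HD ((DCoh.Rpush j).obj M) i) := by
  obtain ⟨N, hN⟩ := Groth.Agent.PerfC.RpushBound.exists_isLE_Rpush j
  refine ⟨N.toNat, fun M a b hM h i hi => ?_⟩
  rcases hi with hi | hi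
  · have hge : M.IsGE a := (DerivedCategory.isGE_iff _ _).2 fun k hk => h k (Or.inl hk)
    have := Groth.Agent.PerfC.RpushTrunc.isGE_Rpush j M a
    exact (DerivedCategory.isGE_iff _ a).1 this i hi
  · have hle : M.IsLE b := (DerivedCategory.isLE_iff _ _).2 fun k hk => h k (Or.inr hk)
    exact (DerivedCategory.isLE_iff _ _).1 (hN M b hM hle) i (by
      have := Int.self_le_toNat N
      lia)

lemma Q_affine (Z : Scheme.{u}) [IsAffine Z] : Q Z :=
  ⟨0, fun K a b hK M c hc i hi => isZero_HD_affine hK hc i (by simpa using hi)⟩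

lemma exists_isCor [CompactSpace Y] [QuasiSeparatedSpace Y] (K : DCoh.D Y) :
    ∃ (M : DCoh.D Y) (c : M ⟶ K), IsCor c := by
  obtain ⟨F, -, -, γ, hγ⟩ := exists_coreflector Y
  exact ⟨_, _, hγ K⟩

/-- Coreflections of pushforwards of restrictions to a compact open, with bounds. -/
lemma exists_isCor_pushRes [CompactSpace Y] [QuasiSeparatedSpace Y] (W : Y.Opens)
    (hW : IsCompact (W : Set Y)) (hQ : Q (W : Scheme.{u})) [DCoh.HasRpush W.ι] :
    ∃ N : ℕ, ∀ (K : DCoh.D Y) (a b : ℤ), Hyp K a b →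
      ∃ (M : DCoh.D Y) (c : M ⟶ (DCoh.Rpush W.ι).obj ((restrictD W.ι).obj K)), IsCor c ∧
        ∀ i : ℤ, (i < a ∨ b + (N : ℤ) < i) → IsZero (DCoh.HD M i) := by
  have : CompactSpace W := isCompact_iff_compactSpace.1 hW
  have : QuasiSeparatedSpace (W : Scheme.{u}) := QuasiSeparatedSpace.of_isOpenEmbedding W.ι.isOpenEmbedding
  obtain ⟨n, hn⟩ := hQ
  obtain ⟨p, hp⟩ := exists_bound_push W.ι
  refine ⟨n + p, fun K a b hK => ?_⟩
  obtain ⟨M, c, hc⟩ := exists_isCor ((restrictD W.ι).obj K)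
  refine ⟨_, _, isCor_push W.ι hc, fun i hi => ?_⟩
  refine hp M a (b + n) hc.1 (fun i hi => hn _ a b (hyp_restrict W.ι hK) M c hc i hi) i ?_
  push_cast at hi
  lia

/-- The inductive step. -/
theorem Q_step [CompactSpace Y] [QuasiSeparatedSpace Y] (U V : Y.Opens) (hUV : U ⊔ V = ⊤)
    (hU : IsCompact (U : Set Y)) (hV : IsCompact (V : Set Y))
    (h₁ : Q (U : Scheme.{u})) (h₂ : Q (V : Scheme.{u})) (h₃ : Q ((U ⊓ V : Y.Opens) : Scheme.{u})) :
    Q Y := by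
  have hI : IsCompact ((U ⊓ V : Y.Opens) : Set Y) := by
    rw [TopologicalSpace.Opens.coe_inf]
    exact QuasiSeparatedSpace.inter_isCompact _ _ U.isOpen hU V.isOpen hV
  have := Groth.Agent.Dcoh.DerSch.hasRpush U.ι
  have := Groth.Agent.Dcoh.DerSch.hasRpush V.ι
  have := Groth.Agent.Dcoh.DerSch.hasRpush (U ⊓ V).ι
  obtain ⟨n₁, H₁⟩ := exists_isCor_pushRes U hU h₁
  obtain ⟨n₂, H₂⟩ := exists_isCor_pushRes V hV h₂
  obtain ⟨n₃, H₃⟩ := exists_isCor_pushRes (U ⊓ V) hI h₃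
  refine ⟨n₁ + n₂ + n₃ + 1, fun K a b hK M c hc i hi => ?_⟩
  obtain ⟨M₁, c₁, hc₁, z₁⟩ := H₁ K a b hK
  obtain ⟨M₂, c₂, hc₂, z₂⟩ := H₂ K a b hK
  obtain ⟨M₃, c₃, hc₃, z₃⟩ := H₃ K a b hK
  push_cast at hi
  exact isZero_HD_of_triangle (K312.MV.exists_mv hUV K) hc hc₁ hc₂ hc₃ i
    (z₁ i (by lia)) (z₂ i (by lia)) (z₃ (i - 1) (by lia))

/-- `Q` is invariant under isomorphisms of schemes (used for ranges of open immersions). -/
theorem Q_all (X : Scheme.{u}) [CompactSpace X] [QuasiSeparatedSpace X] : Q X := by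
  have key : ∀ (W : X.Opens), IsCompact (W : Set X) →
      ∀ (Z : Scheme.{u}) (j : Z ⟶ X) [IsOpenImmersion j], j.opensRange = W → Q Z := by
    intro W hW
    refine Groth.Agent.S0015.result X
      (fun W => ∀ (Z : Scheme.{u}) (j : Z ⟶ X) [IsOpenImmersion j], j.opensRange = W → Q Z)
      ?_ ?_ W hW
    · intro U hU Z j _ hj
      have : IsAffine (j.opensRange : Scheme.{u}) := by
        rw [hj]
        exact hU
      have : IsAffine Z := .of_isIso j.isoOpensRange.hom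
      exact Q_affine Z
    · intro U V hU hV hPU hPV hPI Z j _ hj
      have hVc : IsCompact (V : Set X) := hV.isCompact
      have hi : ∀ W : X.Opens, W ≤ U ⊔ V → j ''ᵁ (j ⁻¹ᵁ W) = W := by
        intro W hW
        rw [Scheme.Hom.image_preimage_eq_opensRange_inf, hj]
        exact inf_eq_right.2 hW
      have hr : ∀ W : X.Opens, W ≤ U ⊔ V → ((j ⁻¹ᵁ W).ι ≫ j).opensRange = W := by
        intro W hW
        rw [Scheme.Hom.opensRange_comp, Scheme.Opens.opensRange_ι, hi W hW]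
      have : QuasiSeparatedSpace Z := QuasiSeparatedSpace.of_isOpenEmbedding j.isOpenEmbedding
      have hZ : ∀ W : X.Opens, W ≤ U ⊔ V → IsCompact (W : Set X) → IsCompact ((j ⁻¹ᵁ W : Z.Opens) : Set Z) := by
        intro W hW hc
        rw [j.isOpenEmbedding.isInducing.isCompact_iff]
        have := congrArg (fun T : X.Opens => (T : Set X)) (hi W hW)
        change j '' (j ⁻¹ᵁ W : Z.Opens) = (W : Set X) at this
        rw [this]
        exact hc
      have ht : j ⁻¹ᵁ (U ⊔ V) = ⊤ := by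
        rw [← hj, Scheme.Hom.preimage_opensRange]
      have : CompactSpace Z := by
        have h := hZ (U ⊔ V) le_rfl (by
          rw [TopologicalSpace.Opens.coe_sup]
          exact hU.union hVc)
        rw [ht] at h
        exact ⟨h⟩
      exact Q_step (j ⁻¹ᵁ U) (j ⁻¹ᵁ V) ht (hZ U le_sup_left hU) (hZ V le_sup_right hVc)
        (hPU _ ((j ⁻¹ᵁ U).ι ≫ j) (hr _ le_sup_left)) (hPV _ ((j ⁻¹ᵁ V).ι ≫ j) (hr _ le_sup_right))
        (hPI _ ((j ⁻¹ᵁ U ⊓ j ⁻¹ᵁ V).ι ≫ j) (hr (U ⊓ V) (inf_le_left.trans le_sup_left)))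
  exact key ⊤ isCompact_univ X (𝟙 X) (Scheme.Hom.opensRange_of_isIso _)

end K368.DQBound
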