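import Groth.Agent.Flat2H.KoszulReg
import Groth.Agent.Sga67.KoszulFun
import Groth.Prelude.Def_ega3

/-!
# Powers of Koszul-regular sequences

* `KReg.mul` : if `f :: l` and `g :: l` are Koszul-regular on `M` then so is `f * g :: l`;
* `KReg.map_pow` : powers of a Koszul-regular sequence are Koszul-regular;
* `subsingleton_koszulHLim` : `colim_n H^p(f^n; M) = 0` for `p ≠ r`, `M` flat, `f` Koszul-regular.
-/

set_option autoImplicit false
universe u

open CategoryTheory CategoryTheory.Limits
open Groth.Agent.Flat2H.KoszulBasic Groth.Agent.Flat2H.KoszulReg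

namespace Groth.Agent.Perf.K368.KosPow

variable {A : Type u} [CommRing A]

theorem kReg_cons_iff (f : A) (l : List A) (M : ModuleCat.{u} A) :
    KReg (f :: l) M ↔ ∀ i : ℤ, i < 0 → Epi (f • 𝟙 ((kos l (sgl M)).homology i)) ∧
      Mono (f • 𝟙 ((kos l (sgl M)).homology (i + 1))) := by
  constructor
  · intro h i hi
    exact (isZero_homology_cone1_iff f (kos l (sgl M)) i (i + 1) rfl).1 (h i hi.ne)
  · intro h i hi
    rcases lt_or_gt_of_ne hi with hi | hi
    · exact (isZero_homology_cone1_iff f (kos l (sgl M)) i (i + 1) rfl).2 (h i hi)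
    · exact isZero_kos_sgl_homology (f :: l) M i (Or.inr hi)

theorem smul_smul_id {X : ModuleCat.{u} A} (f g : A) : (f * g) • 𝟙 X = (f • 𝟙 X) ≫ (g • 𝟙 X) := by
  rw [Linear.comp_smul, Category.comp_id, smul_smul, mul_comm]

theorem _root_.Groth.Agent.Flat2H.KoszulReg.KReg.mul {f g : A} {l : List A} {M : ModuleCat.{u} A}
    (hf : KReg (f :: l) M) (hg : KReg (g :: l) M) : KReg (f * g :: l) M := by
  rw [kReg_cons_iff] at *
  intro i hi
  obtain ⟨h1, h2⟩ := hf i hi
  obtain ⟨h3, h4⟩ := hg i hi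
  rw [smul_smul_id, smul_smul_id]
  exact ⟨epi_comp _ _, mono_comp _ _⟩

theorem kReg_one_cons (l : List A) (M : ModuleCat.{u} A) : KReg (1 :: l) M := by
  rw [kReg_cons_iff]
  intro i hi
  rw [one_smul, one_smul]
  exact ⟨inferInstance, inferInstance⟩

theorem _root_.Groth.Agent.Flat2H.KoszulReg.KReg.pow_cons {f : A} {l : List A} {M : ModuleCat.{u} A}
    (hf : KReg (f :: l) M) (n : ℕ) : KReg (f ^ n :: l) M := by
  induction n with
  | zero => rw [pow_zero]; exact kReg_one_cons l M
  | succ n ih => rw [pow_succ]; exact ih.mul hf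

theorem map_pow_append {M : ModuleCat.{u} A} (n : ℕ) :
    ∀ (l m : List A), KReg (l ++ m) M → KReg (l.map (· ^ n) ++ m) M
  | [], _, h => h
  | f :: l, m, h => by
    have h1 : KReg (f ^ n :: (l ++ m)) M := KReg.pow_cons h n
    have h2 : KReg (l ++ (f ^ n :: m)) M := h1.perm List.perm_middle.symm
    have h3 := map_pow_append n l (f ^ n :: m) h2
    exact h3.perm List.perm_middle

theorem _root_.Groth.Agent.Flat2H.KoszulReg.KReg.map_pow {l : List A} {M : ModuleCat.{u} A}
    (h : KReg l M) (n : ℕ) : KReg (l.map (· ^ n)) M := by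
  have := map_pow_append n l [] (by rwa [List.append_nil])
  rwa [List.append_nil] at this

theorem isKoszulRegularSeq_map_pow {l : List A} (h : LCI.IsKoszulRegularSeq A l) (n : ℕ) :
    LCI.IsKoszulRegularSeq A (l.map (· ^ n)) :=
  (isKoszulRegularSeq_iff _).2 (((isKoszulRegularSeq_iff _).1 h).map_pow n)

/-- `colim_n H^p(f^n; M) = 0` for `p ≠ r`. -/
theorem subsingleton_koszulHLim {l : List A} (h : LCI.IsKoszulRegularSeq A l) (M : ModuleCat.{u} A)
    [Module.Flat A M] (p : ℕ) (hp : p ≠ l.length) : Subsingleton (CohIII.koszulHLim l M p) := by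
  have h1 : ∀ n : ℕ, Subsingleton (CohIII.koszulHPow l M p n) := fun n =>
    ModuleCat.subsingleton_of_isZero (Groth.Agent.Sga67.KoszulFun.isZero_homology_of_flat _
      (isKoszulRegularSeq_map_pow h n) M _ (by omega))
  refine ⟨fun x y => ?_⟩
  have h0 : ∀ z : CohIII.koszulHLim l M p, z = 0 := by
    intro z
    obtain ⟨n, w, rfl⟩ := Module.DirectLimit.exists_of z
    rw [Subsingleton.elim w 0]
    exact map_zero _
  rw [h0 x, h0 y]

end Groth.Agent.Perf.K368.KosPow
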