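import Groth.Agent.PerfB.BCShift
import Groth.Agent.Dcoh.MapDer
import Groth.Agent.PerfC.RelAmp
import Mathlib.CategoryTheory.ObjectProperty.Retract

/-!
# Locally bounded below objects of `D(O_X)` form a thick triangulated subcategory
-/

set_option autoImplicit false

universe u

open CategoryTheory CategoryTheory.Limits AlgebraicGeometry Pretriangulated Opposite ZeroObject

attribute [local instance] HasDerivedCategory.standard

namespace K368.LocBddBelow

open Groth.Agent Groth.Agent.PerfC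

/-- Locally bounded below objects of `D(O_X)`. -/
def LB (X : Scheme.{u}) : ObjectProperty (DCoh.D X) := fun K =>
  ∀ x : X, ∃ (V : X.Opens) (a : ℤ), x ∈ V ∧ ((DCoh.restrictD V.ι).obj K).IsGE a

variable {X : Scheme.{u}}

lemma isGE_restrict (K : DCoh.D X) {A B : X.Opens} (hAB : A ≤ B) (n n' : ℤ) (hn : n' ≤ n)
    (hK : ((DCoh.restrictD B.ι).obj K).IsGE n) : ((DCoh.restrictD A.ι).obj K).IsGE n' := by
  have h0 : ((DCoh.restrictD B.ι ⋙ DCoh.restrictD (X.homOfLE hAB)).obj K).IsGE n :=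
    Dcoh.MapDer.isGE_map (n := n) (Scheme.Modules.restrictFunctor (X.homOfLE hAB))
      ((DCoh.restrictD B.ι).obj K)
  have h2 : ((DCoh.restrictD A.ι).obj K).IsGE n :=
    DerivedCategory.TStructure.t.isGE_of_iso ((Dcoh.LocalD.restrictCompEq (X.homOfLE_ι hAB)).app K) n
  exact DerivedCategory.TStructure.t.isGE_of_ge _ n' n hn

instance : (LB X).IsClosedUnderIsomorphisms where
  of_iso {K L} e h x := by
    obtain ⟨V, a, hx, hV⟩ := h x
    exact ⟨V, a, hx, DerivedCategory.TStructure.t.isGE_of_iso ((DCoh.restrictD V.ι).mapIso e) a⟩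

instance : (LB X).ContainsZero where
  exists_zero := ⟨0, isZero_zero _, fun x => ⟨⊤, 0, trivial, by
    rw [DerivedCategory.isGE_iff]
    intro i _
    exact Functor.map_isZero _ (Functor.map_isZero _ (isZero_zero _))⟩⟩

instance : (LB X).IsStableUnderShift ℤ where
  isStableUnderShiftBy n :=
    { le_shift := fun K hK x => by
        obtain ⟨V, a, hx, hV⟩ := hK x
        refine ⟨V, a - n, hx, ?_⟩
        have h1 : DerivedCategory.TStructure.t.IsGE
            ((DCoh.restrictD V.ι ⋙ shiftFunctor (DCoh.D (V : Scheme.{u})) n).obj K) (a - n) :=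
          DerivedCategory.TStructure.t.isGE_shift ((DCoh.restrictD V.ι).obj K) a n (a - n) (by omega)
        exact @Triangulated.TStructure.isGE_of_iso _ _ _ _ _ _ _ DerivedCategory.TStructure.t _ _
          (((DCoh.restrictD V.ι).commShiftIso n).symm.app K) (a - n) h1 }

instance : (LB X).IsTriangulatedClosed₂ := .mk' (by
  intro T hT h1 h3 x
  obtain ⟨V₁, a₁, hx₁, hV₁⟩ := h1 x
  obtain ⟨V₃, a₃, hx₃, hV₃⟩ := h3 x
  refine ⟨V₁ ⊓ V₃, min a₁ a₃, ⟨hx₁, hx₃⟩, ?_⟩
  have g1 := isGE_restrict T.obj₁ (A := V₁ ⊓ V₃) inf_le_left a₁ (min a₁ a₃) (min_le_left _ _) hV₁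
  have g3 := isGE_restrict T.obj₃ (A := V₁ ⊓ V₃) inf_le_right a₃ (min a₁ a₃) (min_le_right _ _) hV₃
  exact DerivedCategory.TStructure.t.isGE₂ _ ((DCoh.restrictD (V₁ ⊓ V₃).ι).map_distinguished T hT)
    (min a₁ a₃) g1 g3)

instance : (LB X).IsTriangulated where

instance : (LB X).IsStableUnderRetracts where
  of_retract {K L} r hL x := by
    obtain ⟨V, a, hx, hV⟩ := hL x
    refine ⟨V, a, hx, ?_⟩
    rw [DerivedCategory.isGE_iff] at hV ⊢
    intro i hi
    have h := hV i hi
    let r' := (r.map (DCoh.restrictD V.ι)).map (DerivedCategory.homologyFunctor _ i)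
    rw [IsZero.iff_id_eq_zero, ← r'.retract, h.eq_of_tgt r'.i 0, zero_comp]

end K368.LocBddBelow
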