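import Groth.Agent.Sga4h.FunLES
import Groth.Agent.Sga4h.LocCohLES
import Groth.Agent.PerfB.GammaZ
import Groth.Agent.CohqB.RelVan

/-!
# Local cohomology sheaves `ℋ^i_Z(M)` of modules on a scheme

`j : U ⟶ X` an open immersion with closed complement `Z`.
* `ι`, `η` : `Γ_Z M ⟶ M ⟶ j_* j^* M`, short exact for `M` injective (`shortExact`);
* `δ`, `locIso` : `R^{n+2} Γ_Z M ≅ R^{n+1} j_* (M|_U)`;
* `isZero_one_iff` : `ℋ^1_Z(M) = 0` iff `M ⟶ j_* j^* M` is an epimorphism;
* `isZero_zero_iff` : `ℋ^0_Z(M) = 0` iff `M ⟶ j_* j^* M` is a monomorphism.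
-/

set_option autoImplicit false
universe u

open CategoryTheory CategoryTheory.Limits AlgebraicGeometry Opposite TopologicalSpace

namespace Groth.Agent.Perf.K368.LocCoh

open Groth.Agent.Sga4h

noncomputable section

variable {U X : Scheme.{u}} (j : U ⟶ X) [IsOpenImmersion j]

/-- `j_* j^*`. -/
abbrev R : X.Modules ⥤ X.Modules := Scheme.Modules.restrictFunctor j ⋙ Scheme.Modules.pushforward j

/-- `Γ_Z M ⟶ M`. -/
def ι : DCoh.gammaZ j ⟶ 𝟭 X.Modules where
  app M := kernel.ι ((Scheme.Modules.restrictAdjunction j).unit.app M)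
  naturality _ _ _ := kernel.lift_ι _ _ _

/-- `M ⟶ j_* j^* M`. -/
def η : 𝟭 X.Modules ⟶ R j := (Scheme.Modules.restrictAdjunction j).unit

theorem w (M : X.Modules) : (ι j).app M ≫ (η j).app M = 0 := kernel.condition _

theorem shortExact (I : X.Modules) (hI : Injective I) :
    (ShortComplex.mk ((ι j).app I) ((η j).app I) (w j I)).ShortExact where
  exact := ShortComplex.exact_of_f_is_kernel _
    (kernelIsKernel ((Scheme.Modules.restrictAdjunction j).unit.app I))
  mono_f := inferInstanceAs (Mono (kernel.ι ((Scheme.Modules.restrictAdjunction j).unit.app I)))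
  epi_g := Groth.Agent.PerfB.GammaZ.epi_unit j I

variable [HasInjectiveResolutions X.Modules]

theorem isZero_rightDerived_id (M : X.Modules) (n : ℕ) :
    IsZero (((𝟭 X.Modules).rightDerived (n + 1)).obj M) :=
  FunLES.isZero_rightDerived_of_exact _ M n

/-- The derived functors of `j_* j^*`. -/
def rIso (M : X.Modules) (n : ℕ) :
    ((R j).rightDerived n).obj M ≅ (Coh.Rpush j n).obj (M.restrict j) :=
  RightDer.rightDerivedExactComp (Scheme.Modules.restrictFunctor j)
    (fun I _ => Groth.Agent.PerfB.GammaZ.injective_restrict j I) (Scheme.Modules.pushforward j) n M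

/-- `R^{n+1} j_* (M|_U) ≅ ℋ^{n+2}_Z(M)`. -/
def locIso (M : X.Modules) (n : ℕ) :
    (Coh.Rpush j (n + 1)).obj (M.restrict j) ≅ ((DCoh.gammaZ j).rightDerived (n + 2)).obj M :=
  haveI := FunLES.isIso_δ (ι j) (η j) (w j) (shortExact j) M (n + 1) (isZero_rightDerived_id M n)
    (isZero_rightDerived_id M (n + 1))
  (rIso j M (n + 1)).symm ≪≫ asIso (FunLES.δ (ι j) (η j) (w j) (shortExact j) M (n + 1))

theorem isZero_succ_succ (M : X.Modules) (n : ℕ)
    (h : IsZero ((Coh.Rpush j (n + 1)).obj (M.restrict j))) :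
    IsZero (((DCoh.gammaZ j).rightDerived (n + 2)).obj M) :=
  h.of_iso (locIso j M n).symm

instance : PreservesFiniteLimits (Scheme.Modules.pushforward j) := by
  have := (Scheme.Modules.pullbackPushforwardAdjunction j).isRightAdjoint
  infer_instance

theorem isZero_one_iff (M : X.Modules) :
    IsZero (((DCoh.gammaZ j).rightDerived 1).obj M) ↔
      Epi ((Scheme.Modules.restrictAdjunction j).unit.app M) := by
  have hex := FunLES.exact₀ (ι j) (η j) (w j) (shortExact j) M
  have hepi := FunLES.epi_δ₀ (ι j) (η j) (w j) (shortExact j) M (isZero_rightDerived_id M 0)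
  constructor
  · intro h
    exact hex.epi_f (h.eq_of_tgt _ _)
  · intro h
    have h' : Epi ((η j).app M) := h
    have h0 : FunLES.δ₀ (ι j) (η j) (w j) (shortExact j) M = 0 := by
      rw [← cancel_epi ((η j).app M), comp_zero]
      exact FunLES.comp_δ₀ (ι j) (η j) (w j) (shortExact j) M
    rw [IsZero.iff_id_eq_zero, ← cancel_epi (FunLES.δ₀ (ι j) (η j) (w j) (shortExact j) M), h0,
      zero_comp, zero_comp]

omit [HasInjectiveResolutions X.Modules] in
theorem preservesFiniteLimits_gammaZ : PreservesFiniteLimits (DCoh.gammaZ j) :=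
  LocCohLES.leftExact_of_kernel (R j) (DCoh.gammaZ j) (ι j) (η j) (w j)
    (fun M => kernelIsKernel ((Scheme.Modules.restrictAdjunction j).unit.app M))

theorem isZero_zero_iff (M : X.Modules) :
    IsZero (((DCoh.gammaZ j).rightDerived 0).obj M) ↔
      Mono ((Scheme.Modules.restrictAdjunction j).unit.app M) := by
  have := preservesFiniteLimits_gammaZ j
  rw [((DCoh.gammaZ j).rightDerivedZeroIsoSelf.app M).isZero_iff]
  constructor
  · intro h
    exact Preadditive.mono_of_isZero_kernel _ h
  · intro h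
    exact isZero_kernel_of_mono _

end

end Groth.Agent.Perf.K368.LocCoh
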