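import Groth.Agent.Perf.K368.LocCoh
import Groth.Agent.S0010

/-!
# Complements of subsets cut out by few equations

`U ⊆ X` open, `V ⊆ X` open, `fs` a finite set of sections over `V` whose zero locus meets `V` in `V ∖ U`.
-/

set_option autoImplicit false
universe u

open CategoryTheory CategoryTheory.Limits AlgebraicGeometry Opposite TopologicalSpace

namespace Groth.Agent.Perf.K368.LocCohGeom

noncomputable section

variable {X : Scheme.{u}} (U : X.Opens) {V : X.Opens} {S : Set Γ(X, V)}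

theorem mem_iff (hZ : X.zeroLocus (U := V) S ∩ (V : Set ↥X) = (U : Set ↥X)ᶜ ∩ (V : Set ↥X)) {y : X}
    (hy : y ∈ V) : y ∈ U ↔ ∃ f ∈ S, y ∈ X.basicOpen f := by
  have h1 : y ∈ X.zeroLocus (U := V) S ↔ y ∉ U := by
    constructor
    · intro h
      have : y ∈ X.zeroLocus (U := V) S ∩ (V : Set ↥X) := ⟨h, hy⟩
      rw [hZ] at this
      exact this.1
    · intro h
      have : y ∈ (U : Set ↥X)ᶜ ∩ (V : Set ↥X) := ⟨h, hy⟩
      rw [← hZ] at this
      exact this.1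
  rw [Scheme.mem_zeroLocus_iff] at h1
  constructor
  · intro h
    by_contra h2
    push Not at h2
    exact h1.1 h2 h
  · rintro ⟨f, hf, hyf⟩
    by_contra h2
    exact h1.2 h2 f hf hyf

/-- The open `D(f) ∩ W` as an open subscheme of `U ∩ W`. -/
def D {W : X.Opens} (hWV : W ≤ V) (f : Γ(X, V)) : (U.ι ⁻¹ᵁ W).toScheme.Opens :=
  ((U.ι ⁻¹ᵁ W).ι ≫ U.ι) ⁻¹ᵁ (X.basicOpen (X.presheaf.map (homOfLE hWV).op f))

theorem isAffineOpen_D (hZ : X.zeroLocus (U := V) S ∩ (V : Set ↥X) = (U : Set ↥X)ᶜ ∩ (V : Set ↥X))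
    {W : X.Opens} (hWV : W ≤ V) (hW : IsAffineOpen W) {f : Γ(X, V)} (hf : f ∈ S) :
    IsAffineOpen (D U hWV f) := by
  refine (hW.basicOpen (X.presheaf.map (homOfLE hWV).op f)).preimage_of_isOpenImmersion _ ?_
  intro y hy
  have hyW : y ∈ W := X.basicOpen_le _ hy
  have hyf : y ∈ X.basicOpen f := by
    rw [Scheme.basicOpen_res] at hy
    exact hy.2
  have hyU : y ∈ U := (mem_iff U hZ (hWV hyW)).2 ⟨f, hf, hyf⟩
  exact ⟨⟨⟨y, hyU⟩, hyW⟩, rfl⟩

theorem iSup_D (hZ : X.zeroLocus (U := V) S ∩ (V : Set ↥X) = (U : Set ↥X)ᶜ ∩ (V : Set ↥X))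
    {W : X.Opens} (hWV : W ≤ V) : ⨆ f : S, D U hWV f.1 = ⊤ := by
  rw [eq_top_iff]
  rintro ⟨⟨y, hyU⟩, hyW⟩ -
  obtain ⟨f, hf, hyf⟩ := (mem_iff U hZ (hWV hyW)).1 hyU
  refine Opens.mem_iSup.2 ⟨⟨f, hf⟩, ?_⟩
  change y ∈ X.basicOpen _
  rw [Scheme.basicOpen_res]
  exact ⟨hyW, hyf⟩

theorem isSeparated {W : X.Opens} (hW : IsAffineOpen W) : (U.ι ⁻¹ᵁ W).toScheme.IsSeparated := by
  have : IsAffine W.toScheme := hW
  let g : (U.ι ⁻¹ᵁ W).toScheme ⟶ W.toScheme := U.ι ∣_ W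
  exact ⟨by
    have h : terminal.from (U.ι ⁻¹ᵁ W).toScheme = g ≫ terminal.from W.toScheme := (terminal.hom_ext _ _)
    rw [h]
    infer_instance⟩

/-- Vanishing of the cohomology of `U ∩ W` above the number of equations. -/
theorem subsingleton_HH
    (hZ : X.zeroLocus (U := V) S ∩ (V : Set ↥X) = (U : Set ↥X)ᶜ ∩ (V : Set ↥X))
    (hS : S.Finite) {W : X.Opens} (hWV : W ≤ V) (hW : IsAffineOpen W) (M : (U.ι ⁻¹ᵁ W).toScheme.Modules)
    (hM : Coh.IsQCoh M) (n : ℕ) (hn : S.ncard ≤ n) :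
    Subsingleton (Coh.HH (U.ι ⁻¹ᵁ W).toScheme M n) := by
  have : Finite S := hS
  have hc : Nat.card S = S.ncard := rfl
  let e : Fin S.ncard ≃ S := (Finite.equivFinOfCardEq hc).symm
  have hsep := isSeparated U hW
  have : Coh.IsQCoh M := hM
  refine Groth.Agent.S0010.result _ S.ncard (fun i => D U hWV (e i).1)
    (fun i => isAffineOpen_D U hZ hWV hW (e i).2) ?_ ?_ M n hn
  · rw [← iSup_D U hZ hWV]
    exact e.iSup_comp (g := fun f : S => D U hWV f.1)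
  · intro V' W' h1 h2
    exact h1.inf h2

theorem compactSpace
    (hZ : X.zeroLocus (U := V) S ∩ (V : Set ↥X) = (U : Set ↥X)ᶜ ∩ (V : Set ↥X))
    (hS : S.Finite) {W : X.Opens} (hWV : W ≤ V) (hW : IsAffineOpen W) :
    CompactSpace (U.ι ⁻¹ᵁ W).toScheme := by
  have : Finite S := hS
  rw [← isCompact_univ_iff]
  have h := iSup_D U hZ hWV
  have h2 : (Set.univ : Set (U.ι ⁻¹ᵁ W).toScheme) = ⋃ f : S, (D U hWV f.1 : Set (U.ι ⁻¹ᵁ W).toScheme) := by
    rw [← Opens.coe_iSup, h]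
    rfl
  rw [h2]
  exact isCompact_iUnion fun f => (isAffineOpen_D U hZ hWV hW f.2).isCompact

/-- The inclusion of `U` is quasi-compact if locally `X ∖ U` is cut out by finitely many equations. -/
theorem quasiCompact
    (h : ∀ x : X, ∃ (V : X.Opens) (S : Set Γ(X, V)), x ∈ V ∧ S.Finite ∧
      X.zeroLocus (U := V) S ∩ (V : Set ↥X) = (U : Set ↥X)ᶜ ∩ (V : Set ↥X)) :
    QuasiCompact U.ι := by
  have h' : ∀ x : X, ∃ W : X.affineOpens, x ∈ W.1 ∧ CompactSpace (U.ι ⁻¹ᵁ W.1).toScheme := by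
    intro x
    obtain ⟨V, S, hx, hS, hZ⟩ := h x
    obtain ⟨W, hW, hxW, hWV⟩ := exists_isAffineOpen_mem_and_subset hx
    exact ⟨⟨W, hW⟩, hxW, compactSpace U hZ hS hWV hW⟩
  choose W hxW hW using h'
  refine HasAffineProperty.of_iSup_eq_top (P := @QuasiCompact) (fun x : X => W x) ?_ fun x => hW x
  rw [eq_top_iff]
  intro x _
  exact Opens.mem_iSup.2 ⟨x, hxW x⟩

/-- `R^m j_* (F|_U) = 0` for `m ≥ c` if `X ∖ U` is locally cut out by at most `c` equations. -/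
theorem isZero_Rpush (c : ℕ)
    (h : ∀ x : X, ∃ (V : X.Opens) (S : Set Γ(X, V)), x ∈ V ∧ S.Finite ∧ S.ncard ≤ c ∧
      X.zeroLocus (U := V) S ∩ (V : Set ↥X) = (U : Set ↥X)ᶜ ∩ (V : Set ↥X))
    (F : U.toScheme.Modules) (hF : Coh.IsQCoh F) (m : ℕ) (hm : c ≤ m) :
    IsZero ((Coh.Rpush U.ι m).obj F) := by
  have : QuasiCompact U.ι := quasiCompact U fun x => by
    obtain ⟨V, S, h1, h2, -, h3⟩ := h x
    exact ⟨V, S, h1, h2, h3⟩
  refine CohqB.RelVan.isZero_Rpush_of_cover U.ι F hF m fun x => ?_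
  obtain ⟨V, S, hx, hS, hc, hZ⟩ := h x
  obtain ⟨W, hW, hxW, hWV⟩ := exists_isAffineOpen_mem_and_subset hx
  exact ⟨W, hxW, hW, subsingleton_HH U hZ hS hWV hW _ (PerfA.QCohSerre.isQCoh_restrict _ hF) m
    (hc.trans hm)⟩

/-- If `U` is empty, the unit `F ⟶ j_* j^* F` is an epimorphism. -/
theorem epi_unit_of_empty (hU : ∀ x : X, x ∉ U) (F : X.Modules) :
    Epi ((Scheme.Modules.restrictAdjunction U.ι).unit.app F) := by
  refine PerfB.ModExact.epi_of_locally_surjective _ fun V y x hx => ?_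
  refine ⟨V, le_rfl, hx, 0, ?_⟩
  have hs : Subsingleton Γ(((Scheme.Modules.restrictFunctor U.ι) ⋙ (Scheme.Modules.pushforward U.ι)).obj F, V) := by
    have h1 : (U.ι ⁻¹ᵁ V) = ⊥ := by
      ext z
      exact ⟨fun _ => (hU z.1 z.2).elim, fun h => h.elim⟩
    have h2 : Subsingleton Γ((Scheme.Modules.restrictFunctor U.ι).obj F, U.ι ⁻¹ᵁ V) := by
      rw [h1]
      exact ⟨fun s t => Groth.Agent.CohqB.QC2.section_ext _
        (fun _ : Empty => (⊥ : U.toScheme.Opens)) (fun i => i.elim) bot_le s t (fun i => i.elim)⟩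
    exact h2
  exact Subsingleton.elim _ _

/-- Local cohomology sheaves vanish above the number of equations. -/
theorem isZero_gammaZ [HasInjectiveResolutions X.Modules] (c : ℕ)
    (h : ∀ x : X, ∃ (V : X.Opens) (S : Set Γ(X, V)), x ∈ V ∧ S.Finite ∧ S.ncard ≤ c ∧
      X.zeroLocus (U := V) S ∩ (V : Set ↥X) = (U : Set ↥X)ᶜ ∩ (V : Set ↥X))
    (F : X.Modules) (hF : Coh.IsQCoh F) (i : ℕ) (hi : c < i) :
    IsZero (((DCoh.gammaZ U.ι).rightDerived i).obj F) := by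
  obtain _ | _ | i := i
  · omega
  · have hc : c = 0 := by omega
    subst hc
    refine (LocCoh.isZero_one_iff U.ι F).2 (epi_unit_of_empty U (fun x hx => ?_) F)
    obtain ⟨V, S, hxV, hS, hcard, hZ⟩ := h x
    have hS' : S = ∅ := (Set.ncard_eq_zero hS).1 (Nat.le_zero.1 hcard)
    subst hS'
    obtain ⟨f, hf, -⟩ := (mem_iff U hZ hxV).1 hx
    exact hf
  · exact LocCoh.isZero_succ_succ U.ι F i (isZero_Rpush U c h _
      (PerfA.QCohSerre.isQCoh_restrict _ hF) (i + 1) (by omega))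

end

end Groth.Agent.Perf.K368.LocCohGeom
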