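import Groth.Agent.Perf.K368.LocCohGeom
import Groth.Agent.Perf.K368.KosPow
import Groth.Agent.Flat2D.LocalGlobalH
import Groth.Agent.Flat2H.KoszulLoc
import Groth.Agent.Flat2H.KoszulBC
import Groth.Agent.S2439
import Groth.Agent.S2442
import Groth.Agent.Fdesc.QCohStalk
import Groth.Agent.Dcoh.StalkRestrict
import Groth.Agent.Cohder.RpushSum

/-!
# Local cohomology sheaves of flat modules along Koszul-regular sequences
-/

set_option autoImplicit false
universe u

open CategoryTheory CategoryTheory.Limits AlgebraicGeometry Opposite TopologicalSpace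
open Groth.Agent.Fdesc.QCohStalk

namespace Groth.Agent.Perf.K368.LocCohKos

noncomputable section

variable {X : Scheme.{u}}

/-- Sections of a flat quasi-coherent module over an affine open are flat. -/
theorem flat_sections (F : X.Modules) (hF : Coh.IsQCoh F) (hfl : FlatMod.IsFlat F) {U : X.Opens}
    (hU : IsAffineOpen U) : Module.Flat Γ(X, U) Γ(F, U) := by
  refine Module.flat_of_isLocalized_maximal (S := Γ(X, U)) Γ(F, U)
    (fun P _ => LocalizedModule P.primeCompl Γ(F, U))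
    (fun P _ => LocalizedModule.mkLinearMap P.primeCompl Γ(F, U)) ?_
  intro P hP
  obtain ⟨x, hx, hxP⟩ : ∃ (x : X) (hx : x ∈ U), (hU.primeIdealOf ⟨x, hx⟩).asIdeal = P := by
    obtain ⟨y, hy⟩ := (Scheme.homeoOfIso hU.isoSpec).surjective (⟨P, hP.isPrime⟩ : Spec Γ(X, U))
    exact ⟨y.1, y.2, congrArg PrimeSpectrum.asIdeal hy⟩
  subst hxP
  let i3 : Module Γ(X, U) (F.presheaf.stalk x) := stalkModule F x hx
  let i6 : Algebra Γ(X, U) (X.presheaf.stalk x) := (X.presheaf.germ U x hx).hom.toAlgebra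
  have t8 : IsScalarTower Γ(X, U) (X.presheaf.stalk x) (F.presheaf.stalk x) :=
    IsScalarTower.of_algebraMap_smul (fun _ _ => rfl)
  have l1 := hU.isLocalization_stalk ⟨x, hx⟩
  have l3 := isLocalizedModule_germ F hU hF x hx
  have h3 : Module.Flat Γ(X, U) (F.presheaf.stalk x) :=
    (Module.flat_iff_of_isLocalization (X.presheaf.stalk x)
      (hU.primeIdealOf ⟨x, hx⟩).asIdeal.primeCompl _).mp (hfl x)
  exact Module.Flat.of_linearEquiv ((IsLocalizedModule.linearEquiv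
    (hU.primeIdealOf ⟨x, hx⟩).asIdeal.primeCompl (LocalizedModule.mkLinearMap _ _)
      (germₗ F x hx)))

variable (U : X.Opens)

/-- `U` is near `V` the complement of the zero locus of a Koszul-regular sequence of length `c`. -/
def Good (c : ℕ) (V : X.Opens) : Prop :=
  IsAffineOpen V ∧ ∃ fs : List Γ(X, V), fs.length = c ∧ LCI.IsKoszulRegularSeq Γ(X, V) fs ∧
    X.zeroLocus (U := V) {a | a ∈ fs} ∩ (V : Set ↥X) = (U : Set ↥X)ᶜ ∩ (V : Set ↥X)

theorem flat_res {V W : X.Opens} (hV : IsAffineOpen V) (hW : IsAffineOpen W) (h : W ≤ V) :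
    (X.presheaf.map (homOfLE h).op).hom.Flat := by
  have h1 := Flat.flat_appLE (𝟙 X) hV hW h
  have h2 : Scheme.Hom.appLE (𝟙 X) V W h = X.presheaf.map (homOfLE h).op := by
    rw [Scheme.Hom.appLE, Scheme.Hom.id_app]
    exact Category.id_comp _
  exact h2 ▸ h1

/-- Goodness passes to smaller affine opens. -/
theorem Good.of_le {c : ℕ} {V W : X.Opens} (hV : Good U c V) (hW : IsAffineOpen W) (h : W ≤ V) :
    Good U c W := by
  obtain ⟨hVa, fs, hlen, hfs, hZ⟩ := hV
  refine ⟨hW, fs.map (X.presheaf.map (homOfLE h).op).hom, by simpa using hlen,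
    Groth.Agent.Flat2H.KoszulBC.IsKoszulRegularSeq_map_of_flat hfs _ (flat_res hVa hW h), ?_⟩
  ext y
  refine and_congr_left fun hy => ?_
  have h1 := LocCohGeom.mem_iff U hZ (h hy)
  rw [Scheme.mem_zeroLocus_iff, Set.mem_compl_iff, SetLike.mem_coe, h1]
  constructor
  · rintro h2 ⟨f, hf, hyf⟩
    refine h2 _ (List.mem_map_of_mem hf) ?_
    change y ∈ X.basicOpen (X.presheaf.map (homOfLE h).op f)
    rw [Scheme.basicOpen_res]
    exact ⟨hy, hyf⟩
  · intro h2 g hg hyg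
    obtain ⟨f, hf, rfl⟩ := List.mem_map.1 hg
    refine h2 ⟨f, hf, ?_⟩
    change y ∈ X.basicOpen (X.presheaf.map (homOfLE h).op f) at hyg
    rw [Scheme.basicOpen_res] at hyg
    exact hyg.2

section Core

variable {c : ℕ} {W : X.Opens} (hW : Good U c W) (F : X.Modules) (hF : Coh.IsQCoh F)
  (hfl : FlatMod.IsFlat F)

/-- The sequence as a sequence of global functions on the scheme `W`. -/
theorem exists_gs (hW : Good U c W) : ∃ gs : List Γ(W.toScheme, ⊤), gs.length = c ∧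
    LCI.IsKoszulRegularSeq Γ(W.toScheme, ⊤) gs ∧
      W.ι ''ᵁ (⨆ i : Fin gs.length, W.toScheme.basicOpen (gs.get i)) = U ⊓ W := by
  obtain ⟨hWa, fs, hlen, hfs, hZ⟩ := hW
  let e : Γ(X, W) ≃+* Γ(W.toScheme, ⊤) := W.topIso.symm.commRingCatIsoToRingEquiv
  refine ⟨fs.map e, by simpa using hlen,
    (Groth.Agent.Flat2H.KoszulLoc.isKoszulRegularSeq_map_ringEquiv_iff e fs).2 hfs, ?_⟩
  have hb : ∀ f : Γ(X, W), W.ι ''ᵁ (W.toScheme.basicOpen (e f)) = X.basicOpen f := by
    intro f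
    rw [Scheme.Opens.ι_image_basicOpen']
    exact congrArg X.basicOpen (ConcreteCategory.congr_hom W.topIso.inv_hom_id f)
  have himg : ∀ (y : X) (V' : W.toScheme.Opens), y ∈ W.ι ''ᵁ V' ↔ ∃ h : y ∈ W, (⟨y, h⟩ : W) ∈ V' := by
    intro y V'
    constructor
    · rintro ⟨z, hz, rfl⟩
      exact ⟨z.2, hz⟩
    · rintro ⟨h, hz⟩
      exact ⟨⟨y, h⟩, hz, rfl⟩
  ext y
  rw [SetLike.mem_coe, SetLike.mem_coe, himg]
  constructor
  · rintro ⟨h, hy⟩
    obtain ⟨i, hi⟩ := Opens.mem_iSup.1 hy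
    refine ⟨?_, h⟩
    obtain ⟨f, hf, hfi⟩ := List.mem_map.1 (List.get_mem (fs.map e) i)
    rw [← hfi] at hi
    have h2 : y ∈ X.basicOpen f := by
      rw [← hb f, himg]
      exact ⟨h, hi⟩
    exact (LocCohGeom.mem_iff U hZ h).2 ⟨f, hf, h2⟩
  · rintro ⟨hyU, h⟩
    refine ⟨h, ?_⟩
    obtain ⟨f, hf, hyf⟩ := (LocCohGeom.mem_iff U hZ h).1 hyU
    obtain ⟨i, hi⟩ := List.get_of_mem (List.mem_map_of_mem (f := e) hf)
    refine Opens.mem_iSup.2 ⟨i, ?_⟩
    rw [hi]
    rw [← hb f, himg] at hyf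
    exact hyf.2

include hF hfl in
theorem flat_top (hWa : IsAffineOpen W) :
    Module.Flat Γ(W.toScheme, ⊤) (ModuleCat.of Γ(W.toScheme, ⊤) ((F.restrict W.ι).val.obj (op ⊤))) := by
  have : IsAffine W.toScheme := hWa
  exact flat_sections (F.restrict W.ι) (PerfA.QCohSerre.isQCoh_restrict _ hF)
    (Dcoh.StalkRestrict.isFlat_restrict _ hfl) (isAffineOpen_top W.toScheme)

include hW hF hfl in
theorem subsingleton_HU (q : ℕ) (hq : 1 ≤ q) (hqc : q + 1 ≠ c) :
    Subsingleton (CohTop.HU (X := X.toTopCat) (Coh.toAb F) q (U ⊓ W)) := by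
  obtain ⟨gs, hlen, hgs, himg⟩ := exists_gs U hW
  have hWa : IsAffine W.toScheme := hW.1
  have hGq : Coh.IsQCoh (F.restrict W.ι) := PerfA.QCohSerre.isQCoh_restrict _ hF
  have hfl' := flat_top F hF hfl hW.1
  obtain ⟨e⟩ := Groth.Agent.S2439.result W.toScheme gs
    (fun i => (isAffineOpen_top W.toScheme).basicOpen (gs.get i)) (F.restrict W.ι) q hq
  have h1 := KosPow.subsingleton_koszulHLim hgs
    (ModuleCat.of Γ(W.toScheme, ⊤) ((F.restrict W.ι).val.obj (op ⊤))) (q + 1) (by omega)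
  have h2 : Subsingleton (Coh.HHon W.toScheme (F.restrict W.ι)
      (⨆ i : Fin gs.length, W.toScheme.basicOpen (gs.get i)) q) := e.toEquiv.subsingleton
  set O : W.toScheme.Opens := ⨆ i : Fin gs.length, W.toScheme.basicOpen (gs.get i) with hO
  refine (Flat2D.LocalGlobalH.HU_iff_restrict (O.ι ≫ W.ι) F (U ⊓ W) ?_ q).2 ?_
  · rw [← himg]
    ext y
    constructor
    · rintro ⟨z, hz, rfl⟩
      exact ⟨⟨z, hz⟩, trivial, rfl⟩
    · rintro ⟨z, -, rfl⟩
      exact ⟨z.1, z.2, rfl⟩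
  · exact Flat2D.LocalGlobalH.subsingleton_HH_of_iso
      ((Scheme.Modules.restrictFunctorComp O.ι W.ι).app F).symm q h2

theorem injective_toAb {Y : Scheme.{u}} (G : Y.Modules) {V V' : Y.Opens} (h : V' ≤ V)
    (H : Subsingleton ((Coh.toAb G).obj.map (homOfLE h).op).hom.ker) :
    Function.Injective (G.presheaf.map (homOfLE h).op) :=
  (AddMonoidHom.ker_eq_bot_iff ((Coh.toAb G).obj.map (homOfLE h).op).hom).1
    (AddSubgroup.eq_bot_of_subsingleton _)

theorem surjective_toAb {Y : Scheme.{u}} (G : Y.Modules) {V V' : Y.Opens} (h : V' ≤ V)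
    (H : Subsingleton (↑((Coh.toAb G).obj.obj (op V')) ⧸
      ((Coh.toAb G).obj.map (homOfLE h).op).hom.range)) :
    Function.Surjective (G.presheaf.map (homOfLE h).op) :=
  AddMonoidHom.range_eq_top.1 (QuotientAddGroup.subsingleton_iff.1 H)

theorem injective_restrict (F : X.Modules) {O : W.toScheme.Opens} (h : O ≤ ⊤)
    (H : Function.Injective ((F.restrict W.ι).presheaf.map (homOfLE h).op))
    {O₁ O₂ : X.Opens} (h1 : W.ι ''ᵁ ⊤ = O₁) (h2 : W.ι ''ᵁ O = O₂) (h' : O₂ ≤ O₁) :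
    Function.Injective (F.presheaf.map (homOfLE h').op) := by
  subst h1 h2
  exact H

theorem surjective_restrict (F : X.Modules) {O : W.toScheme.Opens} (h : O ≤ ⊤)
    (H : Function.Surjective ((F.restrict W.ι).presheaf.map (homOfLE h).op))
    {O₁ O₂ : X.Opens} (h1 : W.ι ''ᵁ ⊤ = O₁) (h2 : W.ι ''ᵁ O = O₂) (h' : O₂ ≤ O₁) :
    Function.Surjective (F.presheaf.map (homOfLE h').op) := by
  subst h1 h2
  exact H

include hW hF hfl in
theorem injective_res (hc : c ≠ 0) :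
    Function.Injective (F.presheaf.map (homOfLE (inf_le_right : U ⊓ W ≤ W)).op) := by
  obtain ⟨gs, hlen, hgs, himg⟩ := exists_gs U hW
  have hWa : IsAffine W.toScheme := hW.1
  have hGq : Coh.IsQCoh (F.restrict W.ι) := PerfA.QCohSerre.isQCoh_restrict _ hF
  have hfl' := flat_top F hF hfl hW.1
  obtain ⟨⟨e⟩, -⟩ := Groth.Agent.S2442.result W.toScheme gs (F.restrict W.ι)
  have h1 := KosPow.subsingleton_koszulHLim hgs
    (ModuleCat.of Γ(W.toScheme, ⊤) ((F.restrict W.ι).val.obj (op ⊤))) 0 (by omega)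
  have h2 := e.toEquiv.subsingleton
  exact injective_restrict F _ (injective_toAb _ _ h2) W.ι_image_top himg _

include hW hF hfl in
theorem surjective_res (hc : c ≠ 1) :
    Function.Surjective (F.presheaf.map (homOfLE (inf_le_right : U ⊓ W ≤ W)).op) := by
  obtain ⟨gs, hlen, hgs, himg⟩ := exists_gs U hW
  have hWa : IsAffine W.toScheme := hW.1
  have hGq : Coh.IsQCoh (F.restrict W.ι) := PerfA.QCohSerre.isQCoh_restrict _ hF
  have hfl' := flat_top F hF hfl hW.1
  obtain ⟨-, ⟨e⟩⟩ := Groth.Agent.S2442.result W.toScheme gs (F.restrict W.ι)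
  have h1 := KosPow.subsingleton_koszulHLim hgs
    (ModuleCat.of Γ(W.toScheme, ⊤) ((F.restrict W.ι).val.obj (op ⊤))) 1 (by omega)
  have h2 := e.toEquiv.subsingleton
  exact surjective_restrict F _ (surjective_toAb _ _ h2) W.ι_image_top himg _

end Core

section Main

variable (c : ℕ) (h : ∀ x : X, ∃ V : X.Opens, x ∈ V ∧ Good U c V)
  (F : X.Modules) (hF : Coh.IsQCoh F) (hfl : FlatMod.IsFlat F)

include h in
theorem exists_small (x : X) (V₀ : X.Opens) (hx : x ∈ V₀) : ∃ W : X.Opens, x ∈ W ∧ W ≤ V₀ ∧ Good U c W := by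
  obtain ⟨V, hxV, hV⟩ := h x
  obtain ⟨W, hW, hxW, hWV⟩ := exists_isAffineOpen_mem_and_subset (U := V ⊓ V₀) ⟨hxV, hx⟩
  exact ⟨W, hxW, fun y hy => (hWV hy).2, hV.of_le U hW fun y hy => (hWV hy).1⟩

theorem image_preimage (W : X.Opens) : U.ι ''ᵁ U.ι ⁻¹ᵁ W = U ⊓ W := by
  ext y
  constructor
  · rintro ⟨z, hz, rfl⟩
    exact ⟨z.2, hz⟩
  · rintro ⟨h1, h2⟩
    exact ⟨⟨y, h1⟩, h2, rfl⟩

include h hF hfl in
theorem mono_unit (hc : c ≠ 0) : Mono ((Scheme.Modules.restrictAdjunction U.ι).unit.app F) := by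
  refine Groth.Agent.Cohder.RpushSum.mono_of_locally _ fun V s hs x hx => ?_
  obtain ⟨W, hxW, hWV, hW⟩ := exists_small U c h x V hx
  refine ⟨W, hWV, hxW, ?_⟩
  apply injective_res U hW F hF hfl hc
  rw [map_zero]
  rw [Scheme.Modules.restrictAdjunction_unit_app_app] at hs
  have hle : U ⊓ W ≤ U.ι ''ᵁ U.ι ⁻¹ᵁ V := by
    rw [image_preimage]
    exact inf_le_inf_left U hWV
  have h2 : F.presheaf.map (homOfLE hle).op (F.presheaf.map (homOfLE (U.ι.image_preimage_le V)).op s) = 0 :=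
    (congrArg (F.presheaf.map (homOfLE hle).op) hs).trans (map_zero (F.presheaf.map (homOfLE hle).op).hom)
  exact (map_map F hWV inf_le_right s).trans ((map_map F (U.ι.image_preimage_le V) hle s).symm.trans h2)

theorem surjective_congr (F : X.Modules) {O O' W : X.Opens} (e : O = O') (h1 : O ≤ W) (h2 : O' ≤ W)
    (H : Function.Surjective (F.presheaf.map (homOfLE h1).op)) :
    Function.Surjective (F.presheaf.map (homOfLE h2).op) := by
  subst e
  exact H

include h hF hfl in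
theorem epi_unit (hc : c ≠ 1) : Epi ((Scheme.Modules.restrictAdjunction U.ι).unit.app F) := by
  refine PerfB.ModExact.epi_of_locally_surjective _ fun V y x hx => ?_
  obtain ⟨W, hxW, hWV, hW⟩ := exists_small U c h x V hx
  obtain ⟨z, hz⟩ := surjective_congr F (image_preimage U W).symm inf_le_right
    (U.ι.image_preimage_le W) (surjective_res U hW F hF hfl hc)
      ((((Scheme.Modules.restrictFunctor U.ι) ⋙ (Scheme.Modules.pushforward U.ι)).obj F).presheaf.map
        (homOfLE hWV).op y)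
  exact ⟨W, hWV, hxW, z, hz⟩

include h hF hfl in
theorem isZero_Rpush (q : ℕ) (hq : 1 ≤ q) (hqc : q + 1 ≠ c) :
    IsZero ((Coh.Rpush U.ι q).obj (F.restrict U.ι)) := by
  have : QuasiCompact U.ι := LocCohGeom.quasiCompact U fun x => by
    obtain ⟨V, hxV, hVa, fs, -, -, hZ⟩ := h x
    exact ⟨V, {a | a ∈ fs}, hxV, fs.finite_toSet, hZ⟩
  refine CohqB.RelVan.isZero_Rpush_of_cover U.ι _ (PerfA.QCohSerre.isQCoh_restrict _ hF) q fun x => ?_
  obtain ⟨W, hxW, hW⟩ := h x
  refine ⟨W, hxW, hW.1, ?_⟩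
  have h1 := subsingleton_HU U hW F hF hfl q hq hqc
  have h2 := (Flat2D.LocalGlobalH.HU_iff_restrict ((U.ι ⁻¹ᵁ W).ι ≫ U.ι) F (U ⊓ W) (by
    ext y
    constructor
    · rintro ⟨h1, h2⟩
      exact ⟨⟨⟨y, h1⟩, h2⟩, trivial, rfl⟩
    · rintro ⟨z, -, rfl⟩
      exact ⟨z.1.2, z.2⟩) q).1 h1
  exact Flat2D.LocalGlobalH.subsingleton_HH_of_iso
      ((Scheme.Modules.restrictFunctorComp (U.ι ⁻¹ᵁ W).ι U.ι).app F) q h2

include h hF hfl in
/-- Local cohomology sheaves of a flat module along a Koszul-regular subset. -/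
theorem isZero_gammaZ [HasInjectiveResolutions X.Modules] (i : ℕ) (hi : i ≠ c) :
    IsZero (((DCoh.gammaZ U.ι).rightDerived i).obj F) := by
  obtain _ | _ | i := i
  · exact (LocCoh.isZero_zero_iff U.ι F).2 (mono_unit U c h F hF hfl hi.symm)
  · exact (LocCoh.isZero_one_iff U.ι F).2 (epi_unit U c h F hF hfl hi.symm)
  · exact LocCoh.isZero_succ_succ U.ι F i (isZero_Rpush U c h F hF hfl (i + 1) (by omega) (by omega))

end Main

end

end Groth.Agent.Perf.K368.LocCohKos
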