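import Groth.Agent.Perf.K368.StalkAmp
import Groth.Agent.Models2.PushPerfNoeth2
import Groth.Agent.Dual.H379.PerfPush
import Groth.Agent.S0911

/-!
# Perfectness of `Rf_* E` for `E` coherent of finite tor dimension over a Noetherian base
-/

set_option autoImplicit false
universe u
open CategoryTheory CategoryTheory.Limits AlgebraicGeometry
attribute [local instance] HasDerivedCategory.standard

namespace Groth.Agent.Perf.K368.PushPerfRel

open Groth.Agent Groth.Agent.Dcoh Groth.Agent.Models2 PerfC.DTens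

variable {X S U : Scheme.{u}}

/-- `E|_U ⊗ᴸ L(j ≫ f)^* M ≅ (E ⊗ᴸ Lf^* M)|_U`. -/
theorem nonempty_restrict_tensor (f : X ⟶ S) [DCoh.HasLpull f] (j : U ⟶ X) [IsOpenImmersion j]
    [DCoh.HasLpull (j ≫ f)] (E : DCoh.D X) (M : DCoh.D S) :
    Nonempty (((LTX U).obj ((DCoh.restrictD j).obj E)).obj ((DCoh.Lpull (j ≫ f)).obj M) ≅
      (DCoh.restrictD j).obj (((LTX X).obj E).obj ((DCoh.Lpull f).obj M))) := by
  have : DCoh.HasLpull j := S0959.result j
  obtain ⟨e⟩ := S0911.result j f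
  exact ⟨((LTX U).obj ((DCoh.restrictD j).obj E)).mapIso
    ((e.app M).symm ≪≫ ((PerfC.LpullRestrict.restrictIsoLpull j).app ((DCoh.Lpull f).obj M)).symm) ≪≫
      (PerfC.LTXRestr.restrTensObj j E ((DCoh.Lpull f).obj M)).symm⟩

/-- Tor amplitude of the direct image. -/
theorem hasTorAmplitudeIn_Rpush [QuasiSeparatedSpace S] (f : X ⟶ S) [QuasiCompact f]
    [QuasiSeparated f] [DCoh.HasRpush f] (E : DCoh.D X) (hE : DCoh.IsQCohD E)
    (hq : DCoh.IsQCohD ((DCoh.Rpush f).obj E)) (a b : ℤ) (hab : a ≤ b) [((DCoh.Rpush f).obj E).IsLE b]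
    (h : ∀ [DCoh.HasLpull f] (M : DCoh.D S) [M.IsGE 0], (((LTX X).obj E).obj ((DCoh.Lpull f).obj M)).IsGE a) :
    DCoh.HasTorAmplitudeIn a b ((DCoh.Rpush f).obj E) := by
  have hl : DCoh.HasLpull f := S0959.result f
  rw [S1073.result S _ hq _ b hab]
  intro F hF _ i hi
  have h1 : DCoh.HasLTensorCx (Cohder.RelPCMon.sgl F) := ModTens.hasLTensorCx _
  obtain ⟨e1⟩ := Cohder.RelPCMon.nonempty_mod F ((DCoh.Rpush f).obj E)
  let s : DCoh.inD S F ≅ DCoh.toD S (Cohder.RelPCMon.sgl F) :=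
    (DerivedCategory.singleFunctorIsoCompQ S.Modules 0).app F
  have hs : DCoh.IsQCohD (DCoh.toD S (Cohder.RelPCMon.sgl F)) :=
    PerfA.QCohD.isQCohD_of_iso s (PerfA.QCohD.isQCohD_inD F hF)
  let M := DerivedCategory.Q.objPreimage ((DCoh.Lpull f).obj (DCoh.toD S (Cohder.RelPCMon.sgl F)))
  let eM : DCoh.toD X M ≅ (DCoh.Lpull f).obj (DCoh.toD S (Cohder.RelPCMon.sgl F)) :=
    DerivedCategory.Q.objObjPreimageIso _
  have h2 : DCoh.HasLTensorCx M := ModTens.hasLTensorCx _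
  obtain ⟨e2⟩ := S1118.result f E hE (Cohder.RelPCMon.sgl F) hs M ⟨eM⟩
  rcases hi with hi | hi
  · have h3 : (DCoh.toD S (Cohder.RelPCMon.sgl F)).IsGE 0 :=
      DerivedCategory.TStructure.t.isGE_of_iso s 0
    have h4 := h (DCoh.toD S (Cohder.RelPCMon.sgl F))
    have e3 : ((LTX X).obj E).obj ((DCoh.Lpull f).obj (DCoh.toD S (Cohder.RelPCMon.sgl F))) ≅
      (DCoh.LTensorCx M).obj E := ((LTX X).obj E).mapIso eM.symm ≪≫ LTXcxObj E M
    have h6 : ((DCoh.LTensorCx M).obj E).IsGE a := DerivedCategory.TStructure.t.isGE_of_iso e3 a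
    have h5 := PerfC.RpushTrunc.isGE_Rpush f ((DCoh.LTensorCx M).obj E) a
    exact (DerivedCategory.isZero_of_isGE _ a i hi).of_iso
      ((DerivedCategory.homologyFunctor S.Modules i).mapIso (e1 ≪≫ e2))
  · have h3 : (DCoh.toD S (Cohder.RelPCMon.sgl F)).IsLE 0 :=
      DerivedCategory.TStructure.t.isLE_of_iso s 0
    have h4 := PerfC.LTBound.isLE_LTensorCx (PerfC.DTens.bifData S) (Cohder.RelPCMon.sgl F) 0
      ((DCoh.Rpush f).obj E) b
    exact (DerivedCategory.isZero_of_isLE _ (b + 0) i (by simpa using hi)).of_iso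
      ((DerivedCategory.homologyFunctor S.Modules i).mapIso e1)

/-- `Rf_* E` is perfect for `E` coherent, bounded, with support proper over the Noetherian base, of finite tor
amplitude over the base. -/
theorem isPerfect_push [IsNoetherian S] (f : X ⟶ S) [LocallyOfFiniteType f] [DCoh.HasRpush f]
    (E : DCoh.D X) (hcoh : DCoh.IsCohD E) (a₀ b₀ : ℤ) (hbdd : ∀ i : ℤ, (i < a₀ ∨ b₀ < i) → IsZero (DCoh.HD E i))
    (hsupp : ∀ i : ℤ, ClSub.IsProperOver f (CohB1.support (DCoh.HD E i))) (a : ℤ)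
    (h : ∀ [DCoh.HasLpull f] (M : DCoh.D S) [M.IsGE 0],
      (((LTX X).obj E).obj ((DCoh.Lpull f).obj M)).IsGE a) :
    DCoh.IsPerfect ((DCoh.Rpush f).obj E) := by
  have hZ : ClSub.IsProperOver f (⋃ i : Set.Icc a₀ b₀, CohB1.support (DCoh.HD E i)) :=
    FormalA.ProperOver.isProperOver_iUnion f _ fun i => hsupp i
  set Z : Set X := ⋃ i : Set.Icc a₀ b₀, CohB1.support (DCoh.HD E i) with hZdef
  have hsub : ∀ i, CohB1.support (DCoh.HD E i) ⊆ Z := by
    intro i
    by_cases hi : i ∈ Set.Icc a₀ b₀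
    · exact Set.subset_iUnion_of_subset ⟨i, hi⟩ subset_rfl
    · have h0 : IsZero (DCoh.HD E i) := hbdd i (by
        simp only [Set.mem_Icc, not_and_or, not_le] at hi
        exact hi)
      have h1 : PerfC.Supp.supp E i = ∅ := (PerfC.Supp.supp_eq_empty_iff E i).2 h0
      exact (h1.le.trans (Set.empty_subset Z) : PerfC.Supp.supp E i ⊆ Z)
  obtain ⟨V, hV, hZV⟩ := PushPerfNoeth2.exists_compact_open _ (PushPerfNoeth2.isCompact_of_isProperOver f _ hZ)
  have hVr : Z ⊆ Set.range V.ι := by rwa [Scheme.Opens.range_ι]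
  have hX : IsLocallyNoetherian X := LocallyOfFiniteType.isLocallyNoetherian f
  have hVc : CompactSpace V := isCompact_iff_compactSpace.1 hV
  have hVn : IsNoetherian V := {}
  have : ∀ {X' Y' : Scheme.{u}} (g : X' ⟶ Y'), DCoh.HasRpush g := PushPerfNoeth.hasRpush
  have hga : E.IsGE a₀ := (DerivedCategory.isGE_iff E a₀).2 fun i hi => hbdd i (Or.inl hi)
  have hlb : E.IsLE b₀ := (DerivedCategory.isLE_iff E b₀).2 fun i hi => hbdd i (Or.inr hi)
  let E' := (DCoh.restrictD V.ι).obj E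
  have hcoh' : DCoh.IsCohD E' := PerfA.QCohD.isCohD_restrictD V.ι hcoh
  have hga' : E'.IsGE a₀ := MapDer.isGE_map _ _ _
  have hlb' : E'.IsLE b₀ := MapDer.isLE_map _ _ _
  have hs' : ∀ i, ClSub.IsProperOver (V.ι ≫ f) (CohB1.support (DCoh.HD E' i)) := by
    intro i
    have h1 : CohB1.support (DCoh.HD E' i) = V.ι ⁻¹' CohB1.support (DCoh.HD E i) :=
      PerfC.Supp.supp_restrictD V.ι E i
    rw [h1]
    exact PushPerfNoeth2.isProperOver_restrict f _ (hsupp i) V.ι ((hsub i).trans hVr)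
  obtain ⟨h1, h2, b', h3⟩ := S1001.result (V.ι ≫ f) E' a₀ b₀ hcoh' hs'
  have hq : DCoh.IsQCohD ((DCoh.Rpush (V.ι ≫ f)).obj E') := fun i => (h1 i).1
  have hpc : ∀ m : ℤ, DCoh.IsPseudoCoherentD m ((DCoh.Rpush (V.ι ≫ f)).obj E') := fun m =>
    (S1039.result S _ hq m).2 ⟨fun i _ => h1 i, b', h3⟩
  have hperf : DCoh.IsPerfect ((DCoh.Rpush (V.ι ≫ f)).obj E') := by
    have h4 : DCoh.HasTorAmplitudeIn (min a b') b' ((DCoh.Rpush (V.ι ≫ f)).obj E') := by
      refine hasTorAmplitudeIn_Rpush (V.ι ≫ f) E' (fun i => (hcoh' i).1) hq (min a b') b' (min_le_right _ _) ?_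
      intro _ M _
      have hl : DCoh.HasLpull f := S0959.result f
      obtain ⟨e⟩ := nonempty_restrict_tensor f V.ι E M
      have h5 := h M
      have h6 : ((DCoh.restrictD V.ι).obj (((LTX X).obj E).obj ((DCoh.Lpull f).obj M))).IsGE a :=
        MapDer.isGE_map _ _ _
      have h7 : (((LTX V).obj E').obj ((DCoh.Lpull (V.ι ≫ f)).obj M)).IsGE a :=
        DerivedCategory.TStructure.t.isGE_of_iso e.symm a
      exact DerivedCategory.TStructure.t.isGE_of_ge _ (min a b') a (min_le_left _ _)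
    exact PerfFlat.isPerfect_of_flatAmplitude
      ((S0912.result _ (min a b') b' (min_le_right _ _) (fun G => LTMod.hasLTensorMod G)).1 h4)
        (hpc (min a b' - 1))
  have hu := SuppPush.isIso_unit_of_supp V.ι E _ hZ.1 hVr hsub
  obtain ⟨c⟩ := Groth.Agent.S0922.result V.ι f
  refine Dcoh.LocalD.isPerfect_of_iso ?_ hperf
  exact (c.app _).symm ≪≫
    (DCoh.Rpush f).mapIso (asIso ((Dcoh.DerSch.restrictAdj V.ι).unit.app E)).symm

end Groth.Agent.Perf.K368.PushPerfRel
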