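import Groth.Agent.PerfC.RelAmp
import Groth.Agent.PerfC.RelFlat
import Groth.Agent.Dcoh.PerfFlat

/-!
# Perfect objects are relatively perfect over the base of a flat morphism
-/

set_option autoImplicit false

universe u

open CategoryTheory CategoryTheory.Limits AlgebraicGeometry

attribute [local instance] HasDerivedCategory.standard

namespace K368.RelPerfOfPerf

open Groth.Agent

variable {X S : Scheme.{u}} (f : X ⟶ S) [Flat f]

theorem hasRelFlatAmplitudeIn_of_flat {a b : ℤ} {K : DCoh.D X}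
    (h : DCoh.HasFlatAmplitudeIn a b K) : DCoh.HasRelFlatAmplitudeIn f a b K := by
  obtain ⟨E, h1, h2, h3⟩ := h
  exact ⟨E, h1, fun i => PerfC.RelFlat.isFlatOver_of_isFlat f (h2 i), h3⟩

theorem locHasFiniteRelTorDim_of_locHasFiniteTorDim {K : DCoh.D X}
    (h : DCoh.LocHasFiniteTorDim K) : DCoh.LocHasFiniteRelTorDim f K := by
  rw [PerfC.RelAmp.locHasFiniteRelTorDim_iff]
  rw [Dcoh.PerfFlat.locHasFiniteTorDim_iff] at h
  intro x
  obtain ⟨V, a, b, hx, hV⟩ := h x
  exact ⟨V, a, b, hx, hasRelFlatAmplitudeIn_of_flat _ hV⟩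

theorem relPerf_of_isPerfect {K : DCoh.D X} (h : DCoh.IsPerfect K) :
    (∀ m : ℤ, DCoh.IsPseudoCoherentD m K) ∧ DCoh.LocHasFiniteRelTorDim f K := by
  obtain ⟨h1, h2⟩ := (Dcoh.PerfFlat.isPerfect_iff K).1 h
  exact ⟨h1, locHasFiniteRelTorDim_of_locHasFiniteTorDim f h2⟩

end K368.RelPerfOfPerf
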