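import Groth.Agent.Perf.K368.LocBddBelow
import Groth.Agent.S1101
import Groth.Agent.S0959
import Groth.Agent.S0888
import Groth.Agent.PerfB.BCShift
import Groth.Agent.Cohder.PCTri2
import Groth.Agent.Models2.PerfRetract
import Groth.Agent.PerfC.PcLocal

/-!
# Relatively perfect objects form a thick triangulated subcategory
-/

set_option autoImplicit false

universe u

open CategoryTheory CategoryTheory.Limits AlgebraicGeometry Pretriangulated Opposite ZeroObject

attribute [local instance] HasDerivedCategory.standard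

namespace K368.RelPerfThick

open Groth.Agent K368.LocBddBelow

/-- Pseudo-coherent objects. -/
def PC (X : Scheme.{u}) : ObjectProperty (DCoh.D X) := fun K => ∀ m : ℤ, DCoh.IsPseudoCoherentD m K

variable {X S : Scheme.{u}}

instance : (PC X).IsStableUnderRetracts where
  of_retract {K L} r h m := by
    obtain ⟨M, ⟨e⟩⟩ := Models2.PerfRetract.exists_biprod_iso r
    exact (S0888.result m K M (PerfC.PcLocal.pc_of_iso e (h m))).1

instance : (PC X).IsClosedUnderIsomorphisms := inferInstance

instance : (PC X).ContainsZero where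
  exists_zero := ⟨0, isZero_zero _, fun m =>
    S0888.isPseudoCoherentD_of_isZero m _ fun _ _ => Functor.map_isZero _ (isZero_zero _)⟩

instance : (PC X).IsStableUnderShift ℤ where
  isStableUnderShiftBy n :=
    { le_shift := fun K hK m => Cohder.PCTri2.isPseudoCoherentD_shift rfl (hK (n + m)) }

instance : (PC X).IsTriangulatedClosed₂ := .mk' (fun T hT h1 h3 m =>
  Cohder.PCTri2.isPseudoCoherentD_obj₂ m T hT (h1 m) (h3 m))

instance : (PC X).IsTriangulated where


attribute [local instance] PerfB.BCShift.lpullCommShift PerfB.BCSch.hasLpull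

/-- Objects whose derived restrictions to the fibres of `f` are locally bounded below. -/
def FibLB (f : X ⟶ S) (s : S) : ObjectProperty (DCoh.D X) :=
  (LB (f.fiber s)).inverseImage (DCoh.Lpull (f.fiberι s))

instance (f : X ⟶ S) (s : S) : (FibLB f s).IsTriangulated :=
  inferInstanceAs ((LB (f.fiber s)).inverseImage (DCoh.Lpull (f.fiberι s))).IsTriangulated

instance (f : X ⟶ S) (s : S) : (FibLB f s).IsStableUnderRetracts where
  of_retract {K L} r h := (LB (f.fiber s)).prop_of_retract (r.map (DCoh.Lpull (f.fiberι s))) h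

instance (f : X ⟶ S) (s : S) : (FibLB f s).IsClosedUnderIsomorphisms := inferInstance

/-- The property of being relatively perfect. -/
def RP (f : X ⟶ S) : ObjectProperty (DCoh.D X) :=
  fun E => (∀ m : ℤ, DCoh.IsPseudoCoherentD m E) ∧ DCoh.LocHasFiniteRelTorDim f E

theorem rp_iff (f : X ⟶ S) [Flat f] [LocallyOfFinitePresentation f] (E : DCoh.D X) :
    RP f E ↔ PC X E ∧ LB X E ∧ ∀ s : S, FibLB f s E := by
  constructor
  · rintro ⟨h1, h2⟩
    have h3 := (S1101.result f E h1).1 h2
    exact ⟨h1, h3.1, fun s y => h3.2 s y⟩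
  · rintro ⟨h1, h2, h3⟩
    exact ⟨h1, (S1101.result f E h1).2 ⟨h2, fun s y => h3 s y⟩⟩

variable (f : X ⟶ S) [Flat f] [LocallyOfFinitePresentation f]

instance : (RP f).IsStableUnderRetracts where
  of_retract {K L} r h := by
    rw [rp_iff] at h ⊢
    exact ⟨(PC X).prop_of_retract r h.1, (LB X).prop_of_retract r h.2.1,
      fun s => (FibLB f s).prop_of_retract r (h.2.2 s)⟩

instance : (RP f).IsClosedUnderIsomorphisms := inferInstance

instance : (RP f).ContainsZero where
  exists_zero := ⟨0, isZero_zero _, (rp_iff f _).2 ⟨(PC X).prop_zero, (LB X).prop_zero,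
    fun s => (FibLB f s).prop_zero⟩⟩

instance : (RP f).IsStableUnderShift ℤ where
  isStableUnderShiftBy n :=
    { le_shift := fun K hK => by
        rw [rp_iff] at hK
        exact (rp_iff f _).2 ⟨(PC X).le_shift n _ hK.1, (LB X).le_shift n _ hK.2.1,
          fun s => (FibLB f s).le_shift n _ (hK.2.2 s)⟩ }

instance : (RP f).IsTriangulatedClosed₂ := .mk' (by
  intro T hT h1 h3
  rw [rp_iff] at h1 h3 ⊢
  exact ⟨(PC X).ext_of_isTriangulatedClosed₂ T hT h1.1 h3.1,
    (LB X).ext_of_isTriangulatedClosed₂ T hT h1.2.1 h3.2.1,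
    fun s => (FibLB f s).ext_of_isTriangulatedClosed₂ T hT (h1.2.2 s) (h3.2.2 s)⟩)

instance : (RP f).IsTriangulated where

end K368.RelPerfThick
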