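import Groth.Agent.Perf.K368.TensKill
import Groth.Agent.PerfC.FTExt
import Groth.Agent.Desc.FinLocFreeSections
import Groth.Agent.FormalB.FormalLeft
import Groth.Agent.Flat2B.GExSC4B
import Groth.Agent.PerfA.QCohEpi
import Groth.Agent.S1455
import Groth.Agent.Dcoh.StalkRestrict
import Groth.Agent.Dcoh.StalkMod
import Groth.Agent.Dcoh.ResFree
import Groth.Agent.Ega1.QcqsPush

/-!
# Lifting morphisms after tensoring with a finite locally free module

* `isFT_kernel`: the kernel of an epimorphism of a module of finite type onto a finite locally free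
  module is of finite type;
* `exists_lift`: let `φ : E ⟶ O_X` and let `α : M ⟶ N` be a morphism of quasi-coherent modules which is an
  isomorphism where `φ` is surjective.  A morphism `t : G ⟶ N` with `G` finite locally free lifts to `M`
  after composing with some `ε : G' ⟶ G`, `G'` finite locally free, surjective where `φ` is.
-/

set_option autoImplicit false
universe u
open CategoryTheory CategoryTheory.Limits MonoidalCategory AlgebraicGeometry TopologicalSpace

namespace Groth.Agent.Perf.K368.ResolFam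

open Groth.Agent.Fdesc.Skyscraper Groth.Agent.Perf.K368.TensKill Groth.Agent.PerfB.StalkKFlat
  Groth.Agent.Dcoh.Stalk

variable {X : Scheme.{u}}

theorem isFT_kernel {M G : X.Modules} (hM : Coh.IsQCoh M) (hMf : CohB1.IsFT M)
    (hG : FlatMod.IsFinLocFree G) (q : M ⟶ G) [Epi q] : CohB1.IsFT (kernel q) := by
  have hGf := Groth.Agent.Desc.FinLocFreeSections.isFP_of_isFinLocFree hG
  have hGq : Coh.IsQCoh G := Groth.Agent.Models2.FPCoh.isQCoh_of_isFP hGf
  have hK : Coh.IsQCoh (kernel q) := Groth.Agent.PerfA.QCohSerre.isQCoh_kernel q hM hGq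
  refine Groth.Agent.CohqB.FiniteType2.isFT_of_finite_sections (kernel q) fun x => ?_
  obtain ⟨V, hV, hxV, -, hfp⟩ := Groth.Agent.S1455.exists_affine_fp G hGq hGf ⊤ x trivial
  refine ⟨V, hxV, hV, ?_⟩
  have hfin : Module.Finite Γ(X, V) Γ(M, V) :=
    Groth.Agent.CohqB.FiniteType2.finite_sections_of_isFT M hMf hV
  let qV : Γ(M, V) →ₗ[Γ(X, V)] Γ(G, V) :=
    { toFun := q.app V
      map_add' := map_add _
      map_smul' := fun r s => Scheme.Modules.Hom.app_smul q r s }
  have hqV : Function.Surjective qV := Groth.Agent.PerfA.QCohEpi.app_surjective_of_epi q hV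
  have h1 : (LinearMap.ker qV).FG := Module.FinitePresentation.fg_ker qV hqV
  let kV : Γ(kernel q, V) →ₗ[Γ(X, V)] Γ(M, V) :=
    { toFun := (kernel.ι q).app V
      map_add' := map_add _
      map_smul' := fun r s => Scheme.Modules.Hom.app_smul (kernel.ι q) r s }
  have hinj : Function.Injective kV := Groth.Agent.Flat2B.GExSC4.kernel_sec_inj q V
  have hr : LinearMap.range kV = LinearMap.ker qV := by
    ext m
    constructor
    · rintro ⟨k, rfl⟩
      change q.app V ((kernel.ι q).app V k) = 0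
      have h2 : ((kernel.ι q) ≫ q).app V k = 0 := by rw [kernel.condition]; rfl
      exact h2
    · intro hm
      obtain ⟨z, hz⟩ := Groth.Agent.FormalB.FormalLeft.exists_kernel_section q V m hm
      exact ⟨z, hz⟩
  rw [← hr] at h1
  have : Module.Finite Γ(X, V) (LinearMap.range kV) := Module.Finite.iff_fg.mpr h1
  exact Module.Finite.equiv (LinearEquiv.ofInjective kV hinj).symm

theorem stalk_subsingleton_of_mono {M N : X.Modules} (j : M ⟶ N) [Mono j] (x : X)
    (h : Subsingleton (N.presheaf.stalk x)) : Subsingleton (M.presheaf.stalk x) := by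
  have h1 : Mono ((stalkF x).map j) := inferInstance
  rw [ModuleCat.mono_iff_injective] at h1
  have h2 : Subsingleton ((stalkF x).obj N) := h
  exact Function.Injective.subsingleton (f := ((stalkF x).map j).hom) h1

variable {E : X.Modules} (φ : E ⟶ Coh.structureModule X)

theorem exists_lift [CompactSpace X] [QuasiSeparatedSpace X] (hE : FlatMod.IsFinLocFree E)
    {M N G : X.Modules} (hM : Coh.IsQCoh M) (hN : Coh.IsQCoh N) (hG : FlatMod.IsFinLocFree G)
    (α : M ⟶ N) (hα : ∀ x : X, imx φ x = ⊤ → Function.Bijective (stalkMap α x)) (t : G ⟶ N) :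
    ∃ (G' : X.Modules) (ε : G' ⟶ G) (ψ : G' ⟶ M), FlatMod.IsFinLocFree G' ∧
      (∀ x : X, Function.Surjective (stalkMap φ x) → Function.Surjective (stalkMap ε x)) ∧
      ψ ≫ α = ε ≫ t := by
  have hEf := Groth.Agent.Desc.FinLocFreeSections.isFP_of_isFinLocFree hE
  have hEq : Coh.IsQCoh E := Groth.Agent.Models2.FPCoh.isQCoh_of_isFP hEf
  have hEt : CohB1.IsFT E := Groth.Agent.Models2.FPCoh.isFT_of_isFP hEf
  have qc : ∀ {P : X.Modules}, FlatMod.IsFinLocFree P → Coh.IsQCoh P := fun h =>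
    Groth.Agent.Models2.FPCoh.isQCoh_of_isFP (Groth.Agent.Desc.FinLocFreeSections.isFP_of_isFinLocFree h)
  have ft : ∀ {P : X.Modules}, FlatMod.IsFinLocFree P → CohB1.IsFT P := fun h =>
    Groth.Agent.Models2.FPCoh.isFT_of_isFP (Groth.Agent.Desc.FinLocFreeSections.isFP_of_isFinLocFree h)
  -- step A
  let C := cokernel α
  have hC : Coh.IsQCoh C := Groth.Agent.PerfA.QCohSerre.isQCoh_cokernel α hM hN
  let t' : G ⟶ C := t ≫ cokernel.π α
  let I := Abelian.image t'
  have hI : Coh.IsQCoh I := Groth.Agent.CohqB.QC6.isQCoh_image t' (qc hG) hC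
  have hIf : CohB1.IsFT I := Groth.Agent.CohqB.LocalQC.isFT_of_epi (Abelian.factorThruImage t') (ft hG)
  have hC0 : ∀ x : X, imx φ x = ⊤ → Subsingleton (C.presheaf.stalk x) := by
    intro x hx
    refine ⟨fun a b => ?_⟩
    have key : ∀ c : C.presheaf.stalk x, c = 0 := by
      intro c
      have h1 : Epi ((stalkF x).map (cokernel.π α)) := inferInstance
      rw [ModuleCat.epi_iff_surjective] at h1
      obtain ⟨n, hn⟩ := h1 c
      obtain ⟨m, hm⟩ := (hα x hx).2 n
      rw [← hn, ← hm, ← stalkF_map_hom]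
      have h2 : ((stalkF x).map (α ≫ cokernel.π α)).hom m = 0 := by
        rw [cokernel.condition, CategoryTheory.Functor.map_zero]
        rfl
      rw [CategoryTheory.Functor.map_comp] at h2
      exact h2
    rw [key a, key b]
  obtain ⟨n₁, hn₁⟩ := exists_evn_eq_zero φ hEq hEt hI hIf fun x hx =>
    stalk_subsingleton_of_mono (Abelian.image.ι t') x (hC0 x hx)
  have hA : (evn φ n₁).app G ≫ t ≫ cokernel.π α = 0 := by
    have h1 : t ≫ cokernel.π α = Abelian.factorThruImage t' ≫ Abelian.image.ι t' := (Abelian.image.fac t').symm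
    have h2 := (evn φ n₁).naturality (Abelian.factorThruImage t')
    rw [hn₁, comp_zero] at h2
    have h3 : (evn φ n₁).app G ≫ Abelian.factorThruImage t' = 0 := h2.symm
    rw [h1, ← Category.assoc, h3, zero_comp]
  let G₁ := (Tn E n₁).obj G
  have hG₁ : FlatMod.IsFinLocFree G₁ := isFinLocFree_Tn hE n₁ hG
  -- step B
  let f : M ⟶ Abelian.image α := Abelian.factorThruImage α
  let g : G₁ ⟶ Abelian.image α := kernel.lift (cokernel.π α) ((evn φ n₁).app G ≫ t) (by
    rw [Category.assoc]
    exact hA)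
  have hg : g ≫ Abelian.image.ι α = (evn φ n₁).app G ≫ t := kernel.lift_ι _ _ _
  have hN' : Coh.IsQCoh (Abelian.image α) := Groth.Agent.CohqB.QC6.isQCoh_image α hM hN
  have hP : Coh.IsQCoh (pullback f g) := by
    have e : kernel (biprod.desc f (-g)) ≅ pullback f g :=
      (kernelIsKernel (biprod.desc f (-g))).conePointUniqueUpToIso
        (Abelian.PullbackToBiproductIsKernel.isLimitPullbackToBiproduct f g)
    exact Groth.Agent.PerfA.QCohSerre.isQCoh_of_iso e (Groth.Agent.PerfA.QCohSerre.isQCoh_kernel _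
      (Groth.Agent.CohqB.QC6.isQCoh_biprod hM (qc hG₁)) hN')
  have : Epi (pullback.snd f g) := inferInstance
  obtain ⟨M₂, j, hM₂, hM₂f, hj, hjs⟩ := Groth.Agent.PerfC.FTExt.exists_isFT_mono_epi hP (qc hG₁) (ft hG₁)
    (pullback.snd f g)
  let q : M₂ ⟶ G₁ := j ≫ pullback.snd f g
  have hq : Epi q := hjs
  let κ : kernel q ⟶ M := kernel.ι q ≫ j ≫ pullback.fst f g
  have hκα : κ ≫ α = 0 := by
    have h1 : kernel.ι q ≫ j ≫ pullback.snd f g = 0 := kernel.condition q
    have h2 : κ ≫ f = 0 := by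
      have h3 : κ ≫ f = (kernel.ι q ≫ j ≫ pullback.snd f g) ≫ g := by
        simp only [κ, Category.assoc, pullback.condition]
      rw [h3, h1, zero_comp]
    rw [← Abelian.image.fac α, ← Category.assoc]
    change (κ ≫ f) ≫ _ = 0
    rw [h2, zero_comp]
  have hκ : Mono κ := by
    refine Preadditive.mono_of_cancel_zero _ fun {Z} z hz => ?_
    have h1 : z ≫ kernel.ι q ≫ j = 0 := by
      apply pullback.hom_ext
      · rw [zero_comp]
        simpa only [κ, Category.assoc] using hz
      · rw [zero_comp, Category.assoc, Category.assoc]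
        change z ≫ kernel.ι q ≫ q = 0
        rw [kernel.condition, comp_zero]
    have h2 : z ≫ (kernel.ι q ≫ j) = 0 ≫ (kernel.ι q ≫ j) := by rw [h1, zero_comp]
    have : Mono (kernel.ι q ≫ j) := mono_comp _ _
    exact (cancel_mono _).mp h2
  have hKs : ∀ x : X, imx φ x = ⊤ → Subsingleton ((kernel q).presheaf.stalk x) := by
    intro x hx
    refine ⟨fun a b => ?_⟩
    have key : ∀ c : (kernel q).presheaf.stalk x, c = 0 := by
      intro c
      have h1 : Mono ((stalkF x).map κ) := inferInstance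
      rw [ModuleCat.mono_iff_injective] at h1
      have h2 : stalkMap κ x c = 0 := by
        apply (hα x hx).1
        rw [← stalkMap_comp_apply, hκα, map_zero, ← stalkF_map_hom, CategoryTheory.Functor.map_zero]
        rfl
      rw [← stalkF_map_hom] at h2
      exact h1 (h2.trans (map_zero ((stalkF x).map κ).hom).symm)
    rw [key a, key b]
  obtain ⟨n₂, hn₂⟩ := exists_evn_eq_zero φ hEq hEt
    (Groth.Agent.PerfA.QCohSerre.isQCoh_kernel q hM₂ (qc hG₁)) (isFT_kernel hM₂ hM₂f hG₁ q) hKs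
  have hw : (Tn E n₂).map (kernel.ι q) ≫ (evn φ n₂).app M₂ = 0 := by
    have h1 := (evn φ n₂).naturality (kernel.ι q)
    rw [hn₂, zero_comp] at h1
    exact h1
  let S : ShortComplex X.Modules := ShortComplex.mk (kernel.ι q) q (kernel.condition q)
  have hS : S.Exact := ShortComplex.exact_of_f_is_kernel S (kernelIsKernel q)
  have hSq : Epi S.g := hq
  have hST : (S.map (Tn E n₂)).Exact := hS.map_of_epi_of_preservesCokernel (Tn E n₂) hSq inferInstance
  have hSTq : Epi (S.map (Tn E n₂)).g := inferInstanceAs (Epi ((Tn E n₂).map q))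
  let ψ : (Tn E n₂).obj G₁ ⟶ M₂ := hST.desc ((evn φ n₂).app M₂) hw
  have hψ : (Tn E n₂).map q ≫ ψ = (evn φ n₂).app M₂ := hST.g_desc _ _
  have hψq : ψ ≫ q = (evn φ n₂).app G₁ := by
    rw [← cancel_epi ((Tn E n₂).map q), ← Category.assoc, hψ]
    exact ((evn φ n₂).naturality q).symm
  refine ⟨(Tn E n₂).obj G₁, (evn φ n₂).app G₁ ≫ (evn φ n₁).app G, ψ ≫ j ≫ pullback.fst f g,
    isFinLocFree_Tn hE n₂ hG₁, ?_, ?_⟩
  · intro x hx a
    obtain ⟨b, hb⟩ := surj_evn φ n₁ G x hx a
    obtain ⟨c, hc⟩ := surj_evn φ n₂ G₁ x hx b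
    refine ⟨c, ?_⟩
    rw [stalkMap_comp_apply]
    exact (congrArg (stalkMap ((evn φ n₁).app G) x) hc).trans hb
  · have h1 : (j ≫ pullback.fst f g) ≫ α = q ≫ g ≫ Abelian.image.ι α := by
      have h2 : f ≫ Abelian.image.ι α = α := Abelian.image.fac α
      refine (congrArg (fun z => (j ≫ pullback.fst f g) ≫ z) h2.symm).trans ?_
      simp only [q, Category.assoc, pullback.condition_assoc]
    rw [Category.assoc, h1, ← Category.assoc, hψq, hg, Category.assoc]

section Unit

open Groth.Agent.Dcoh.StalkRestrict Groth.Agent.CycB.StalkExact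

theorem stalkLin_eq {M N : X.Modules} (f : M ⟶ N) (x : X) (m : M.presheaf.stalk x) :
    stalkLin f x m = stalkMap f x m := (stalkMap_eq f x m).symm

/-- the unit `M ⟶ j_* j^* M` is bijective on the stalks at points of the open. -/
theorem bijective_unit (U : X.Opens) (M : X.Modules) (x : X) (hx : x ∈ U) :
    Function.Bijective (stalkMap ((Scheme.Modules.restrictAdjunction U.ι).unit.app M) x) := by
  set α := (Scheme.Modules.restrictAdjunction U.ι).unit.app M with hα
  have h1 : IsIso ((Scheme.Modules.restrictFunctor U.ι).map α) := by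
    have h2 := (Scheme.Modules.restrictAdjunction U.ι).left_triangle_components M
    exact IsIso.of_isIso_fac_right h2
  have h3 : Function.Bijective (stalkLin ((Scheme.Modules.restrictFunctor U.ι).map α) (⟨x, hx⟩ : U)) :=
    Groth.Agent.Dcoh.StalkMod.bijective_of_isIso _ _
  have h4 : ∀ m, stalkMap α x (ρ U.ι M ⟨x, hx⟩ m) =
      ρ U.ι _ ⟨x, hx⟩ (stalkLin ((Scheme.Modules.restrictFunctor U.ι).map α) ⟨x, hx⟩ m) := by
    intro m
    rw [← stalkLin_eq]
    exact (ρ_naturality U.ι α ⟨x, hx⟩ m).symm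
  constructor
  · intro a b hab
    obtain ⟨a', rfl⟩ := (ρ U.ι M ⟨x, hx⟩).surjective a
    obtain ⟨b', rfl⟩ := (ρ U.ι M ⟨x, hx⟩).surjective b
    rw [h4, h4] at hab
    rw [h3.1 ((ρ U.ι _ ⟨x, hx⟩).injective hab)]
  · intro c
    obtain ⟨c', rfl⟩ := (ρ U.ι ((Scheme.Modules.pushforward U.ι).obj (M.restrict U.ι)) ⟨x, hx⟩).surjective c
    obtain ⟨b, rfl⟩ := h3.2 c'
    exact ⟨ρ U.ι M ⟨x, hx⟩ b, h4 b⟩

end Unit

theorem surjective_of_imx_eq_top (x : X) (h : imx φ x = ⊤) : Function.Surjective (stalkMap φ x) := by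
  rw [imx, LinearMap.range_eq_top] at h
  intro m
  obtain ⟨e, he⟩ := h ((Groth.Agent.Dcoh.FreeSec.stalkUnit x).symm m)
  exact ⟨e, (Groth.Agent.Dcoh.FreeSec.stalkUnit x).symm.injective he⟩

section Section

open Groth.Agent.PerfC.CyclicGlue

theorem exists_hom_section [CompactSpace X] [QuasiSeparatedSpace X] (hE : FlatMod.IsFinLocFree E)
    (U : X.Opens) (hUc : IsCompact (U : Set X)) (hφ : ∀ x : X, x ∈ U ↔ Function.Surjective (stalkMap φ x))
    {M : X.Modules} (hM : Coh.IsQCoh M) (s : Γ(M, U)) :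
    ∃ (G : X.Modules) (ψ : G ⟶ M), FlatMod.IsFinLocFree G ∧
      ∀ (x : X) (hx : x ∈ U), M.presheaf.germ U x hx s ∈ LinearMap.range (stalkMap ψ x) := by
  have : CompactSpace U := isCompact_iff_compactSpace.1 hUc
  have hqc : QuasiCompact U.ι := inferInstance
  let N := (Scheme.Modules.pushforward U.ι).obj (M.restrict U.ι)
  let α : M ⟶ N := (Scheme.Modules.restrictAdjunction U.ι).unit.app M
  have hN : Coh.IsQCoh N := Groth.Agent.Ega1.QcqsPush.isQCoh_pushforward U.ι (M.restrict U.ι)
    (Groth.Agent.Fdesc.QCohStalk.restrict_isQCoh M hM U.ι)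
  obtain ⟨n, hn⟩ : ∃ n : Γ(N, ⊤), res N le_top n = α.app U s := by
    have hle : U.ι ''ᵁ U.ι ⁻¹ᵁ (⊤ : X.Opens) ≤ U := by
      rw [Scheme.Hom.image_preimage_eq_opensRange_inf, Scheme.Opens.opensRange_ι]
      exact inf_le_left
    refine ⟨res M hle s, ?_⟩
    have h1 : α.app U s = res M (U.ι.image_preimage_le U) s :=
      congrArg (fun f => f s) (Scheme.Modules.restrictAdjunction_unit_app_app U.ι M U)
    rw [h1]
    exact res_res M hle (U.ι.image_mono (U.ι.preimage_mono le_top)) s
  obtain ⟨G, ε, ψ, hG, hε, hψ⟩ := exists_lift φ hE hM hN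
    Groth.Agent.Dcoh.ResFree.isFinLocFree_unit α
    (fun x hx => bijective_unit U M x ((hφ x).2 (surjective_of_imx_eq_top φ x hx)))
    (ofSec N n)
  refine ⟨G, ψ, hG, fun x hx => ?_⟩
  obtain ⟨g, hg⟩ := hε x ((hφ x).1 hx) ((Coh.structureModule X).presheaf.germ U x hx (1 : Γ(X, U)))
  refine ⟨g, (bijective_unit U M x hx).1 ?_⟩
  have h0 : stalkMap α x (M.presheaf.germ U x hx s) = N.presheaf.germ U x hx (α.app U s) :=
    stalkMap_germ α x U hx s
  have h1 : stalkMap α x (stalkMap ψ x g) = stalkMap (ofSec N n) x (stalkMap ε x g) := by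
    rw [← stalkMap_comp_apply, hψ, stalkMap_comp_apply]
  have h2 : stalkMap (ofSec N n) x ((Coh.structureModule X).presheaf.germ U x hx (1 : Γ(X, U))) =
      N.presheaf.germ U x hx ((ofSec N n).app U (1 : Γ(X, U))) := stalkMap_germ (ofSec N n) x U hx _
  have h3 : (ofSec N n).app U (1 : Γ(X, U)) = α.app U s := by
    rw [← hn]
    exact (ofSec_app N n U (1 : Γ(X, U))).trans (one_smul _ _)
  refine h1.trans ?_
  rw [hg, h2, h3]
  exact h0.symm

end Section

section Main

open Groth.Agent.PerfC.AmpleFamily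

theorem exists_surjAt [CompactSpace X] [QuasiSeparatedSpace X] (hE : FlatMod.IsFinLocFree E)
    (U : X.Opens) (hUa : IsAffineOpen U) (hφ : ∀ x : X, x ∈ U ↔ Function.Surjective (stalkMap φ x))
    {M : X.Modules} (hM : Coh.IsQCoh M) (hft : CohB1.IsFT M) :
    ∃ (F : X.Modules) (π : F ⟶ M), FlatMod.IsFinLocFree F ∧ ∀ x ∈ U, SurjAt π x := by
  classical
  have : Coh.IsQCoh M := hM
  have hfin : Module.Finite Γ(X, U) Γ(M, U) :=
    Groth.Agent.CohqB.FiniteType2.finite_sections_of_isFT M hft hUa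
  obtain ⟨s, hs⟩ := Module.finite_def.mp hfin
  choose E φ hE hφ using fun t : Γ(M, U) => exists_hom_section φ hE U hUa.isCompact hφ hM t
  obtain ⟨F, π, hF, h⟩ := exists_common s E φ hE
  refine ⟨F, π, hF, fun x hx => ?_⟩
  have h1 : ∀ t ∈ s, M.presheaf.germ U x hx t ∈ LinearMap.range (stalkMap π x) := by
    intro t ht
    obtain ⟨g, hg⟩ := h t ht
    obtain ⟨e, he⟩ := hφ t x hx
    refine ⟨stalkMap g x e, ?_⟩
    rw [← he, ← stalkMap_comp_apply, hg]
  have h2 : ∀ t : Γ(M, U), M.presheaf.germ U x hx t ∈ LinearMap.range (stalkMap π x) := by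
    intro t
    have ht : t ∈ Submodule.span Γ(X, U) (s : Set Γ(M, U)) := by rw [hs]; trivial
    induction ht using Submodule.span_induction with
    | mem t ht => exact h1 t ht
    | zero => rw [map_zero]; exact zero_mem _
    | add a b _ _ ha hb => rw [map_add]; exact add_mem ha hb
    | smul r a _ ha =>
      rw [Groth.Agent.Fdesc.QCohStalk.germ_smul']
      exact Submodule.smul_mem _ _ ha
  intro m
  obtain ⟨g, t, hxg, ht⟩ := Groth.Agent.Fdesc.QCohStalk.exists_germ_eq_smul M hUa hM x hx m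
  have hu : IsUnit (X.presheaf.germ U x hx g) := (X.mem_basicOpen g x hx).mp hxg
  obtain ⟨v, hv⟩ := hu.exists_left_inv
  have h3 := Submodule.smul_mem _ v (h2 t)
  rw [ht, smul_smul, hv, one_smul] at h3
  exact h3

/-- Resolution property from finitely many morphisms `φ j : E j ⟶ O_X` with `E j` finite locally free
such that the open loci where they are surjective are affine and cover `X`. -/
theorem hasResolutionProperty [CompactSpace X] [QuasiSeparatedSpace X] {ι : Type*} [Finite ι]
    (U : ι → X.Opens) (hU : ∀ j, IsAffineOpen (U j)) (hcov : ∀ x : X, ∃ j, x ∈ U j)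
    (E : ι → X.Modules) (hE : ∀ j, FlatMod.IsFinLocFree (E j)) (φ : ∀ j, E j ⟶ Coh.structureModule X)
    (hφ : ∀ j (x : X), x ∈ U j ↔ Function.Surjective (stalkMap (φ j) x)) :
    PerfAux.HasResolutionProperty X := by
  classical
  intro M hM hft
  choose F π hF hπ using fun j => exists_surjAt (φ j) (hE j) (U j) (hU j) (hφ j) hM hft
  have := Fintype.ofFinite ι
  obtain ⟨G, p, hG, h⟩ := exists_common Finset.univ F π hF
  refine ⟨G, p, hG, ?_⟩
  rw [Groth.Agent.Ega1.FTStalkFin.epi_iff_stalkMap_surjective]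
  intro x
  obtain ⟨j, hj⟩ := hcov x
  obtain ⟨g, hg⟩ := h j (Finset.mem_univ _)
  exact SurjAt.of_factor hg (hπ j x hj)

end Main

end Groth.Agent.Perf.K368.ResolFam
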