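import Groth.Agent.Perf.K368.ResolFam
import Groth.Agent.PerfA.IdealModule

/-!
# The locus where a morphism to `O_X` is surjective
-/

set_option autoImplicit false
universe u
open CategoryTheory CategoryTheory.Limits MonoidalCategory AlgebraicGeometry TopologicalSpace

namespace Groth.Agent.Perf.K368.ResolIdeal

open Groth.Agent.Fdesc.Skyscraper Groth.Agent.Perf.K368.TensKill Groth.Agent.Perf.K368.ResolFam
  Groth.Agent.PerfB.StalkKFlat Groth.Agent.Dcoh.Stalk

variable {X : Scheme.{u}} {E : X.Modules} (φ : E ⟶ Coh.structureModule X)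

theorem surj_iff (x : X) : Function.Surjective (stalkMap φ x) ↔ imx φ x = ⊤ :=
  ⟨imx_eq_top φ x, surjective_of_imx_eq_top φ x⟩

/-- On an affine open the locus where `φ` is surjective is a union of basic opens. -/
theorem surj_iff_exists (hE : Coh.IsQCoh E) {V : X.Opens} (hV : IsAffineOpen V) (S : Set Γ(X, V))
    (hS : Ideal.span S = imV φ V) (x : X) (hx : x ∈ V) :
    Function.Surjective (stalkMap φ x) ↔ ∃ f ∈ S, x ∈ X.basicOpen f := by
  rw [surj_iff]
  constructor
  · intro h
    by_contra hn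
    push Not at hn
    have h1 : imx φ x ≤ IsLocalRing.maximalIdeal (X.presheaf.stalk x) := by
      refine (imx_le φ hE hV x hx).trans ?_
      rw [← hS, Ideal.map_span, Ideal.span_le]
      rintro _ ⟨f, hf, rfl⟩
      have h2 := hn f hf
      rw [X.mem_basicOpen f x hx] at h2
      exact (IsLocalRing.mem_maximalIdeal _).mpr h2
    rw [h] at h1
    exact (IsLocalRing.maximalIdeal.isMaximal _).ne_top (top_le_iff.mp h1)
  · rintro ⟨f, hf, hxf⟩
    have h1 : f ∈ imV φ V := hS ▸ Ideal.subset_span hf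
    have h2 : X.presheaf.germ V x hx f ∈ imx φ x := by
      have h3 : imV φ V ≤ (imx φ x).comap (X.presheaf.germ V x hx).hom := by
        rw [imV, Ideal.span_le]
        rintro _ ⟨e, rfl⟩
        exact germ_fnOf_mem φ V e x hx
      exact h3 h1
    exact Ideal.eq_top_of_isUnit_mem _ h2 ((X.mem_basicOpen f x hx).mp hxf)

theorem exists_finset (hE : Coh.IsQCoh E) (hEf : CohB1.IsFT E) {V : X.Opens} (hV : IsAffineOpen V) :
    ∃ S : Finset Γ(X, V), ∀ x ∈ V, Function.Surjective (stalkMap φ x) ↔ ∃ f ∈ S, x ∈ X.basicOpen f := by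
  obtain ⟨S, hS⟩ := fg_imV φ hE hEf hV
  exact ⟨S, fun x hx => surj_iff_exists φ hE hV S hS x hx⟩

/-- Quasi-compactness of the locus in an affine open. -/
theorem isCompact_inter (hE : Coh.IsQCoh E) (hEf : CohB1.IsFT E) {V : X.Opens} (hV : IsAffineOpen V) :
    IsCompact ((V : Set X) ∩ {x | Function.Surjective (stalkMap φ x)}) := by
  obtain ⟨S, hS⟩ := exists_finset φ hE hEf hV
  have h1 : (V : Set X) ∩ {x | Function.Surjective (stalkMap φ x)} =
      ⋃ f ∈ S, (X.basicOpen f : Set X) := by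
    ext x
    simp only [Set.mem_inter_iff, SetLike.mem_coe, Set.mem_setOf_eq, Set.mem_iUnion, exists_prop]
    constructor
    · rintro ⟨hx, h⟩
      exact (hS x hx).1 h
    · rintro ⟨f, hf, hxf⟩
      have hx : x ∈ V := X.basicOpen_le f hxf
      exact ⟨hx, (hS x hx).2 ⟨f, hf, hxf⟩⟩
  rw [h1]
  exact S.isCompact_biUnion fun f _ => (hV.basicOpen f).isCompact

theorem isOpen_locus (hE : Coh.IsQCoh E) : IsOpen {x : X | Function.Surjective (stalkMap φ x)} := by
  rw [isOpen_iff_forall_mem_open]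
  intro x hx
  obtain ⟨V, hV, hxV, -⟩ := exists_isAffineOpen_mem_and_subset (X := X) (U := ⊤) (x := x) trivial
  obtain ⟨f, hf, hxf⟩ := (surj_iff_exists φ hE hV (imV φ V : Set Γ(X, V)) (Ideal.span_eq _) x hxV).1 hx
  exact ⟨X.basicOpen f, fun y hy => (surj_iff_exists φ hE hV (imV φ V : Set Γ(X, V)) (Ideal.span_eq _) y
    (X.basicOpen_le f hy)).2 ⟨f, hf, hy⟩, (X.basicOpen f).2, hxf⟩

/-- The inclusion of an ideal sheaf is surjective exactly off the support. -/
theorem surj_idealModι_iff (I : X.IdealSheafData) (x : X) :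
    Function.Surjective (stalkMap (ClSub.idealModι I) x) ↔ x ∉ I.support := by
  obtain ⟨V, hV, hxV, -⟩ := exists_isAffineOpen_mem_and_subset (X := X) (U := ⊤) (x := x) trivial
  have hq : Coh.IsQCoh (ClSub.idealMod I) := inferInstance
  have h1 : imV (ClSub.idealModι I) V = I.ideal ⟨V, hV⟩ := by
    refine le_antisymm ?_ ?_
    · rw [imV, Ideal.span_le]
      rintro _ ⟨e, rfl⟩
      exact Groth.Agent.PerfA.IdealModule.val_mem I ⟨V, hV⟩ e
    · intro a ha
      obtain ⟨e, he⟩ := Groth.Agent.PerfA.IdealModule.exists_val_eq I ⟨V, hV⟩ ha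
      rw [← he]
      exact Ideal.subset_span ⟨e, rfl⟩
  rw [surj_iff_exists _ hq hV (I.ideal ⟨V, hV⟩ : Set Γ(X, V)) (by rw [Ideal.span_eq, h1]) x hxV,
    Scheme.IdealSheafData.mem_support_iff_of_mem (U := ⟨V, hV⟩) hxV, Scheme.mem_zeroLocus_iff]
  push Not
  rfl

theorem surj_comp_of_epi {F : X.Modules} (π : F ⟶ E) [Epi π] (x : X) :
    Function.Surjective (stalkMap (π ≫ φ) x) ↔ Function.Surjective (stalkMap φ x) := by
  have h1 : Function.Surjective (stalkMap π x) :=
    (Groth.Agent.Ega1.FTStalkFin.epi_iff_stalkMap_surjective π).1 inferInstance x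
  constructor
  · intro h m
    obtain ⟨f, hf⟩ := h m
    exact ⟨stalkMap π x f, by rw [← stalkMap_comp_apply, hf]⟩
  · intro h m
    obtain ⟨e, he⟩ := h m
    obtain ⟨f, hf⟩ := h1 e
    exact ⟨f, by rw [stalkMap_comp_apply, hf, he]⟩

/-- Resolution property from a family of morphisms to `O_X`, without separation hypotheses. -/
theorem hasResolutionProperty_of_cover {ι : Type*} [Finite ι]
    (U : ι → X.Opens) (hU : ∀ j, IsAffineOpen (U j)) (hcov : ⨆ j, U j = ⊤)
    (E : ι → X.Modules) (hE : ∀ j, FlatMod.IsFinLocFree (E j)) (φ : ∀ j, E j ⟶ Coh.structureModule X)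
    (hφ : ∀ j (x : X), x ∈ U j ↔ Function.Surjective (stalkMap (φ j) x)) :
    PerfAux.HasResolutionProperty X := by
  have hc : ∀ x : X, ∃ j, x ∈ U j := fun x => by
    have : x ∈ (⨆ j, U j) := hcov ▸ trivial
    exact Opens.mem_iSup.mp this
  have : CompactSpace X := by
    rw [← isCompact_univ_iff]
    have h1 : (Set.univ : Set X) = ⋃ j, (U j : Set X) := by
      ext x
      simpa using hc x
    rw [h1]
    exact isCompact_iUnion fun j => (hU j).isCompact
  have fp := fun j => Groth.Agent.Desc.FinLocFreeSections.isFP_of_isFinLocFree (hE j)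
  have : QuasiSeparatedSpace X := by
    refine Scheme.quasiSeparatedSpace_of_isOpenCover U hcov hU fun i j => ?_
    have h1 : (U i : Set X) ∩ (U j : Set X) = (U i : Set X) ∩ {x | Function.Surjective (stalkMap (φ j) x)} := by
      congr 1
      ext x
      exact hφ j x
    have h2 := isCompact_inter (φ j) (Groth.Agent.Models2.FPCoh.isQCoh_of_isFP (fp j))
      (Groth.Agent.Models2.FPCoh.isFT_of_isFP (fp j)) (hU i)
    rw [← h1] at h2
    exact h2
  exact ResolFam.hasResolutionProperty U hU hc E hE φ hφ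

end Groth.Agent.Perf.K368.ResolIdeal
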