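import Groth.Agent.Perf.K368.ResolIdeal
import Groth.Agent.PerfB.LimMod
import Groth.Agent.PerfB.TensUnit
import Groth.Agent.Ega1.SuppTensorMod
import Groth.Agent.FormalA.Support
import Groth.Agent.PerfA.FGIdeal
import Groth.Agent.PerfC.PullRestrict

/-!
# Resolution property in limits
-/

set_option autoImplicit false
universe u
open CategoryTheory CategoryTheory.Limits MonoidalCategory AlgebraicGeometry TopologicalSpace

namespace Groth.Agent.Perf.K368.ResolLim

open Groth.Agent.Fdesc.Skyscraper Groth.Agent.Perf.K368.TensKill Groth.Agent.Perf.K368.ResolFam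
  Groth.Agent.PerfB.StalkKFlat Groth.Agent.Dcoh.Stalk Groth.Agent.Perf.K368.ResolIdeal

variable {X Y : Scheme.{u}}

/-- the locus where `φ` is surjective -/
def L {A B : X.Modules} (φ : A ⟶ B) : Set X := {x | Function.Surjective (stalkMap φ x)}

theorem mem_L {A B : X.Modules} (φ : A ⟶ B) (x : X) : x ∈ L φ ↔ Function.Surjective (stalkMap φ x) := Iff.rfl

theorem mem_L_iff {A B : X.Modules} (φ : A ⟶ B) (x : X) : x ∈ L φ ↔ x ∉ CohB1.support (cokernel φ) := by
  have hx : x ∉ CohB1.support (cokernel φ) ↔ Subsingleton ((cokernel φ).presheaf.stalk x) := not_not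
  rw [hx]
  have h1 : Epi ((stalkF x).map (cokernel.π φ)) := inferInstance
  rw [ModuleCat.epi_iff_surjective] at h1
  have h2 : ∀ m, stalkMap (cokernel.π φ) x (stalkMap φ x m) = 0 := by
    intro m
    rw [← stalkMap_comp_apply, cokernel.condition, ← stalkF_map_hom, CategoryTheory.Functor.map_zero]
    rfl
  constructor
  · intro h
    refine ⟨fun a b => ?_⟩
    have key : ∀ c : (cokernel φ).presheaf.stalk x, c = 0 := by
      intro c
      obtain ⟨n, hn⟩ := h1 c
      obtain ⟨m, hm⟩ := h n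
      have h3 := h2 m
      rw [hm, ← stalkF_map_hom] at h3
      exact hn.symm.trans h3
    rw [key a, key b]
  · intro h n
    let S : ShortComplex X.Modules := ShortComplex.mk φ (cokernel.π φ) (cokernel.condition φ)
    have hS : S.Exact := ShortComplex.exact_of_g_is_cokernel S (cokernelIsCokernel φ)
    have hS' : (S.map (stalkF x)).Exact := hS.map (stalkF x)
    rw [ShortComplex.moduleCat_exact_iff] at hS'
    obtain ⟨m, hm⟩ := hS' n (by
      have : Subsingleton ((S.map (stalkF x)).X₃) := h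
      exact Subsingleton.elim _ _)
    refine ⟨m, ?_⟩
    rw [← stalkF_map_hom]
    exact hm

theorem L_comp_iso {A B C : X.Modules} (φ : A ⟶ B) (e : B ≅ C) : L (φ ≫ e.hom) = L φ := by
  ext x
  rw [mem_L, mem_L]
  have h1 : ∀ b, stalkMap e.inv x (stalkMap e.hom x b) = b := fun b => by
    rw [← stalkMap_comp_apply, e.hom_inv_id, stalkMap_id_apply]
  have h2 : ∀ c, stalkMap e.hom x (stalkMap e.inv x c) = c := fun b => by
    rw [← stalkMap_comp_apply, e.inv_hom_id, stalkMap_id_apply]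
  constructor
  · intro h b
    obtain ⟨a, ha⟩ := h (stalkMap e.hom x b)
    refine ⟨a, ?_⟩
    rw [stalkMap_comp_apply] at ha
    rw [← h1 (stalkMap φ x a), ha, h1]
  · intro h c
    obtain ⟨a, ha⟩ := h (stalkMap e.inv x c)
    exact ⟨a, by rw [stalkMap_comp_apply, ha, h2]⟩

theorem L_epi_comp {A B C : X.Modules} (e : A ⟶ B) [Epi e] (φ : B ⟶ C) : L (e ≫ φ) = L φ := by
  ext x
  rw [mem_L, mem_L]
  have h1 : Function.Surjective (stalkMap e x) :=
    (Groth.Agent.Ega1.FTStalkFin.epi_iff_stalkMap_surjective e).1 inferInstance x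
  constructor
  · intro h m
    obtain ⟨f, hf⟩ := h m
    exact ⟨stalkMap e x f, by rw [← stalkMap_comp_apply, hf]⟩
  · intro h m
    obtain ⟨b, hb⟩ := h m
    obtain ⟨f, hf⟩ := h1 b
    exact ⟨f, by rw [stalkMap_comp_apply, hf, hb]⟩

theorem L_pullback (f : Y ⟶ X) {A B : X.Modules} (hB : CohB1.IsFT B) (φ : A ⟶ B) :
    L ((Scheme.Modules.pullback f).map φ) = f ⁻¹' L φ := by
  ext y
  rw [mem_L_iff, Set.mem_preimage, mem_L_iff]
  have hC : CohB1.IsFT (cokernel φ) := Groth.Agent.CohqB.LocalQC.isFT_of_epi (cokernel.π φ) hB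
  have h1 := Groth.Agent.Ega1.SuppTensorMod.mem_support_pullback f (cokernel φ) hC y
  rw [← h1]
  have e : (Scheme.Modules.pullback f).obj (cokernel φ) ≅ cokernel ((Scheme.Modules.pullback f).map φ) :=
    PreservesCokernel.iso (Scheme.Modules.pullback f) φ
  have h2 : CohB1.support ((Scheme.Modules.pullback f).obj (cokernel φ)) =
      CohB1.support (cokernel ((Scheme.Modules.pullback f).map φ)) :=
    Groth.Agent.FormalA.Support.support_eq_of_iso e
  rw [h2]

/-- pullback of morphisms to the structure sheaf -/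
noncomputable def pb (f : Y ⟶ X) {E : X.Modules} (φ : E ⟶ Coh.structureModule X) :
    (Scheme.Modules.pullback f).obj E ⟶ Coh.structureModule Y :=
  (Scheme.Modules.pullback f).map φ ≫ (Groth.Agent.PerfB.TensUnit.pullbackUnit f).hom

theorem isFT_structureModule (X : Scheme.{u}) : CohB1.IsFT (Coh.structureModule X) :=
  Groth.Agent.Models2.FPCoh.isFT_of_isFP
    (Groth.Agent.Desc.FinLocFreeSections.isFP_of_isFinLocFree Groth.Agent.Dcoh.ResFree.isFinLocFree_unit)

theorem isQCoh_structureModule (X : Scheme.{u}) : Coh.IsQCoh (Coh.structureModule X) :=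
  Groth.Agent.Models2.FPCoh.isQCoh_of_isFP
    (Groth.Agent.Desc.FinLocFreeSections.isFP_of_isFinLocFree Groth.Agent.Dcoh.ResFree.isFinLocFree_unit)

theorem L_pb (f : Y ⟶ X) {E : X.Modules} (φ : E ⟶ Coh.structureModule X) : L (pb f φ) = f ⁻¹' L φ := by
  rw [pb, L_comp_iso, L_pullback f (isFT_structureModule X)]

/-- The locus of a morphism from a finite locally free module to `O_X` is open and, if `X` is
quasi-compact and quasi-separated, quasi-compact. -/
theorem isCompact_L [CompactSpace X] {E : X.Modules} (hE : Coh.IsQCoh E)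
    (hEf : CohB1.IsFT E) (φ : E ⟶ Coh.structureModule X) : IsCompact (L φ) := by
  obtain ⟨s, hs⟩ := IsOpenCover.exists_finite_of_compactSpace (iSup_affineOpens_eq_top X)
  have h1 : L φ = ⋃ V : s, ((V.1.1 : Set X) ∩ L φ) := by
    ext x
    rw [Set.mem_iUnion]
    constructor
    · intro hx
      have h2 : x ∈ (⨆ i : s, (i.1 : X.affineOpens).1) := by rw [hs]; trivial
      obtain ⟨i, hi⟩ := Opens.mem_iSup.mp h2
      exact ⟨i, hi, hx⟩
    · rintro ⟨i, -, hx⟩
      exact hx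
  rw [h1]
  exact isCompact_iUnion fun V => isCompact_inter φ hE hEf V.1.2

/-- the locus as an open -/
def LO {E : X.Modules} (hE : Coh.IsQCoh E) (φ : E ⟶ Coh.structureModule X) : X.Opens :=
  ⟨L φ, isOpen_locus φ hE⟩

section Lim

variable {I : Type u} [SmallCategory I] [IsCofiltered I] (D : I ⥤ Scheme.{u}) (c : Cone D) (hc : IsLimit c)
  [∀ {i j : I} (a : i ⟶ j), IsAffineHom (D.map a)] [∀ i, CompactSpace (D.obj i)]
  [∀ i, QuasiSeparatedSpace (D.obj i)]

include hc in
/-- For an affine open `V` of a stage there is, at a later stage, a morphism `φ : E ⟶ O` with `E` finite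
locally free whose locus is the preimage of `V`. -/
theorem exists_stage (hX : PerfAux.HasResolutionProperty c.pt) (i₀ : I) (V : (D.obj i₀).Opens)
    (hV : IsAffineOpen V)
    (hdesc : ∀ (F : c.pt.Modules), Coh.IsQCoh F → CohB1.IsFP F → ∃ (i : I) (_ : i ⟶ i₀) (Fi : (D.obj i).Modules),
      Coh.IsQCoh Fi ∧ CohB1.IsFP Fi ∧ Nonempty ((Scheme.Modules.pullback (c.π.app i)).obj Fi ≅ F)) :
    ∃ (k : I) (b : k ⟶ i₀) (E : (D.obj k).Modules) (φ : E ⟶ Coh.structureModule (D.obj k)),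
      FlatMod.IsFinLocFree E ∧ L φ = (D.map b ⁻¹ᵁ V : (D.obj k).Opens) := by
  have haff : IsAffineHom (c.π.app i₀) := isAffineHom_π_app D c hc i₀
  have hc1 : CompactSpace c.pt := Scheme.compactSpace_of_isLimit D c hc
  have hc2 : QuasiSeparatedSpace c.pt := quasiSeparatedSpace_of_quasiSeparated (c.π.app i₀)
  let U : c.pt.Opens := c.π.app i₀ ⁻¹ᵁ V
  have hU : IsAffineOpen U := hV.preimage (c.π.app i₀)
  obtain ⟨J, hJ, -, -, hJs⟩ := Groth.Agent.PerfA.FGIdeal.exists_fg_of_isCompact U hU.isCompact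
  have hJf : CohB1.IsFT (ClSub.idealMod J) := (Groth.Agent.PerfA.IdealModule.isFT_idealMod_iff J).2 hJ
  obtain ⟨E, π, hE, hπ⟩ := hX (ClSub.idealMod J) inferInstance hJf
  have hL : L (π ≫ ClSub.idealModι J) = (U : Set c.pt) := by
    ext x
    rw [L_epi_comp, mem_L, surj_idealModι_iff]
    have h1 : x ∈ J.support ↔ x ∈ ((U : Set c.pt)ᶜ) := by
      rw [← hJs]
      rfl
    rw [h1]
    exact not_not
  have hEf := Groth.Agent.Desc.FinLocFreeSections.isFP_of_isFinLocFree hE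
  obtain ⟨i₁, a₁, E₁, hE₁q, hE₁, ⟨e₁⟩⟩ := hdesc E (Groth.Agent.Models2.FPCoh.isQCoh_of_isFP hEf) hEf
  obtain ⟨j, a, ha⟩ := Groth.Agent.PerfB.LimMod.exists_isFinLocFree hc hE₁
    (Groth.Agent.Dcoh.ResFree.isFinLocFree_of_iso e₁.symm hE)
  let a₂ : j ⟶ i₁ := 𝟙 j ≫ a
  let E₂ := (Scheme.Modules.pullback (D.map a₂)).obj E₁
  have hE₂ : FlatMod.IsFinLocFree E₂ := ha j (𝟙 j)
  have hE₂f := Groth.Agent.Desc.FinLocFreeSections.isFP_of_isFinLocFree hE₂
  let e₂ : (Scheme.Modules.pullback (c.π.app j)).obj E₂ ≅ (Scheme.Modules.pullback (c.π.app i₁)).obj E₁ :=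
    Groth.Agent.Flat2F.BCSec.cmp (c.π.app j) (D.map a₂) (c.π.app i₁) (c.w a₂) E₁
  let φ' : (Scheme.Modules.pullback (c.π.app j)).obj E₂ ⟶
      (Scheme.Modules.pullback (c.π.app j)).obj (Coh.structureModule (D.obj j)) :=
    (e₂ ≪≫ e₁).hom ≫ (π ≫ ClSub.idealModι J) ≫ (Groth.Agent.PerfB.TensUnit.pullbackUnit (c.π.app j)).inv
  have hφ' : L φ' = (U : Set c.pt) := by
    rw [← hL]
    change L ((e₂ ≪≫ e₁).hom ≫ (π ≫ ClSub.idealModι J) ≫
      (Groth.Agent.PerfB.TensUnit.pullbackUnit (c.π.app j)).symm.hom) = _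
    rw [L_epi_comp, L_comp_iso]
  obtain ⟨k, a₃, ψ, hψ⟩ := Groth.Agent.PerfB.LimMod.exists_hom hc hE₂f (isQCoh_structureModule (D.obj j))
    (isFT_structureModule (D.obj j)) φ'
  let E₃ := (Scheme.Modules.pullback (D.map a₃)).obj E₂
  have hE₃ : FlatMod.IsFinLocFree E₃ := Groth.Agent.PerfC.PullRestrict.isFinLocFree_pullback (D.map a₃) hE₂
  have hE₃f := Groth.Agent.Desc.FinLocFreeSections.isFP_of_isFinLocFree hE₃
  have hE₃q := Groth.Agent.Models2.FPCoh.isQCoh_of_isFP hE₃f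
  let φ₃ : E₃ ⟶ Coh.structureModule (D.obj k) := ψ ≫ (Groth.Agent.PerfB.TensUnit.pullbackUnit (D.map a₃)).hom
  have hφ₃ : L φ₃ = L ψ := L_comp_iso _ _
  let b : k ⟶ i₀ := a₃ ≫ a₂ ≫ a₁
  have hft : CohB1.IsFT ((Scheme.Modules.pullback (D.map a₃)).obj (Coh.structureModule (D.obj j))) :=
    Groth.Agent.Models2.FPCoh.isFT_of_isFP (Groth.Agent.Desc.FinLocFreeSections.isFP_of_isFinLocFree
      (Groth.Agent.PerfC.PullRestrict.isFinLocFree_pullback (D.map a₃) Groth.Agent.Dcoh.ResFree.isFinLocFree_unit))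
  have hU' : (c.π.app k) ⁻¹' L φ₃ = (U : Set c.pt) := by
    rw [hφ₃, ← L_pullback (c.π.app k) hft, ← hφ', ← hψ, Groth.Agent.PerfB.PushPull.pull, L_epi_comp, L_comp_iso]
  obtain ⟨l, f, hl⟩ := exists_map_preimage_eq_map_preimage D c hc (i := k) (U := LO hE₃q φ₃) (V := D.map b ⁻¹ᵁ V)
    (isCompact_L hE₃q (Groth.Agent.Models2.FPCoh.isFT_of_isFP hE₃f) φ₃)
    (hV.preimage (D.map b)).isCompact (by
      have h1 : c.π.app k ⁻¹ᵁ (D.map b ⁻¹ᵁ V) = U := by
        change (c.π.app k ≫ D.map b) ⁻¹ᵁ V = _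
        rw [c.w b]
      rw [h1]
      exact TopologicalSpace.Opens.ext hU')
  refine ⟨l, f ≫ b, (Scheme.Modules.pullback (D.map f)).obj E₃, pb (D.map f) φ₃,
    Groth.Agent.PerfC.PullRestrict.isFinLocFree_pullback (D.map f) hE₃, ?_⟩
  rw [L_pb, D.map_comp]
  exact congrArg (fun W : (D.obj l).Opens => (W : Set (D.obj l))) hl

include hc in
theorem exists_hasResolutionProperty (hX : PerfAux.HasResolutionProperty c.pt)
    (hdesc : ∀ (i₀ : I) (F : c.pt.Modules), Coh.IsQCoh F → CohB1.IsFP F →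
      ∃ (i : I) (_ : i ⟶ i₀) (Fi : (D.obj i).Modules),
      Coh.IsQCoh Fi ∧ CohB1.IsFP Fi ∧ Nonempty ((Scheme.Modules.pullback (c.π.app i)).obj Fi ≅ F)) :
    ∃ i : I, PerfAux.HasResolutionProperty (D.obj i) := by
  classical
  obtain ⟨i₀⟩ : Nonempty I := IsCofiltered.nonempty
  obtain ⟨s, hs⟩ := IsOpenCover.exists_finite_of_compactSpace (iSup_affineOpens_eq_top (D.obj i₀))
  choose k b E φ hE hφ using fun V : s => exists_stage D c hc hX i₀ V.1.1 V.1.2 (hdesc i₀)
  obtain ⟨o, ho⟩ := IsCofiltered.inf_objs_exists (C := Over i₀)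
    (Finset.univ.image fun V : s => Over.mk (b V))
  let g : ∀ V : s, o ⟶ Over.mk (b V) := fun V =>
    (ho (Finset.mem_image_of_mem (fun V : s => Over.mk (b V)) (Finset.mem_univ V))).some
  let h : ∀ V : s, o.left ⟶ k V := fun V => (g V).left
  have hh : ∀ V, h V ≫ b V = o.hom := fun V => Over.w (g V)
  refine ⟨o.left, hasResolutionProperty_of_cover (fun V : s => D.map o.hom ⁻¹ᵁ V.1.1)
    (fun V => V.1.2.preimage (D.map o.hom)) ?_
    (fun V => (Scheme.Modules.pullback (D.map (h V))).obj (E V))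
    (fun V => Groth.Agent.PerfC.PullRestrict.isFinLocFree_pullback _ (hE V))
    (fun V => pb (D.map (h V)) (φ V)) ?_⟩
  · rw [← Scheme.Hom.preimage_iSup, hs]
    rfl
  · intro V x
    change _ ↔ x ∈ L (pb (D.map (h V)) (φ V))
    rw [L_pb, hφ, ← hh V, D.map_comp]
    rfl

end Lim

end Groth.Agent.Perf.K368.ResolLim
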