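import Groth.Agent.EGA2.K30.CounitEpi
import Groth.Agent.EGA2.K30.CounitGG
import Groth.Agent.PerfC.ResolAffine
import Groth.Agent.PerfC.ResolAmple
import Groth.Agent.CalgB.AmpleRel
import Groth.Agent.Sga67.LocBasisOps

/-!
# The resolution property for schemes with a relatively ample invertible module
-/

set_option autoImplicit false
universe u
open CategoryTheory CategoryTheory.Limits AlgebraicGeometry TopologicalSpace

namespace Groth.Agent.Perf.K368.ResolRelAmple

open Groth.Agent.PerfC.FTExt Groth.Agent.PerfC.ResolAffine Groth.Agent.Fdesc.LocGen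

variable {X Y : Scheme.{u}}

/-- If the counit `f^* f_* M ⟶ M` is an epimorphism and `Y` has the resolution property, `M` is a quotient
of a finite locally free module. -/
theorem exists_of_epi_counit (f : X ⟶ Y) [QuasiCompact f] [QuasiSeparated f] [CompactSpace Y]
    [QuasiSeparatedSpace Y] (hY : PerfAux.HasResolutionProperty Y) {M : X.Modules} (hM : Coh.IsQCoh M)
    (hM' : CohB1.IsFT M) (h : Epi ((Scheme.Modules.pullbackPushforwardAdjunction f).counit.app M)) :
    ∃ (E : X.Modules) (π : E ⟶ M), FlatMod.IsFinLocFree E ∧ Epi π := by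
  classical
  let P := (Scheme.Modules.pushforward f).obj M
  have hP : Coh.IsQCoh P := Ega1.QcqsPush.isQCoh_pushforward f M hM
  have hcX : CompactSpace X := QuasiCompact.compactSpace_of_compactSpace f
  -- pairs of affine opens
  have key : ∀ x : X, ∃ (V : Y.affineOpens) (W : X.affineOpens), x ∈ W.1 ∧ W.1 ≤ f ⁻¹ᵁ V.1 := by
    intro x
    obtain ⟨V, hV, hxV, -⟩ := exists_isAffineOpen_mem_and_subset (x := f x) (U := ⊤) trivial
    obtain ⟨W, hW, hxW, hWV⟩ := exists_isAffineOpen_mem_and_subset (x := x) (U := f ⁻¹ᵁ V) hxV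
    exact ⟨⟨V, hV⟩, ⟨W, hW⟩, hxW, hWV⟩
  choose V W hxW hWV using key
  obtain ⟨T, hT⟩ := CompactSpace.elim_nhds_subcover (X := X) (fun x => ((W x).1 : Set X))
    (fun x => (W x).1.isOpen.mem_nhds (hxW x))
  have hgen : ∀ x : X, ∃ S : Finset Γ(M, f ⁻¹ᵁ (V x).1),
      Submodule.span Γ(X, (W x).1) (res M (hWV x) '' (S : Set Γ(M, f ⁻¹ᵁ (V x).1))) = ⊤ := by
    intro x
    have h1 := K30.CounitEpi.span_res_eq_top f hM h (V x).2 (W x).2 (hWV x)
    have h2 : (⊤ : Submodule Γ(X, (W x).1) Γ(M, (W x).1)).FG :=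
      (CohqB.FiniteType2.finite_sections_of_isFT M hM' (W x).2).fg_top
    obtain ⟨S, hS, hS'⟩ := Submodule.fg_span_iff_fg_span_finset_subset (R := Γ(X, (W x).1))
      (Set.range (res M (hWV x))) |>.1 (by rw [h1]; exact h2)
    obtain ⟨S', rfl⟩ : ∃ S' : Finset Γ(M, f ⁻¹ᵁ (V x).1), S'.image (res M (hWV x)) = S := by
      obtain ⟨S', hS'1, hS'2⟩ := Finset.subset_set_image_iff.1 (by rwa [Set.image_univ] : (S : Set _) ⊆ res M (hWV x) '' Set.univ)
      exact ⟨S', hS'2⟩
    exact ⟨S', by rw [← Finset.coe_image, ← hS', h1]⟩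
  choose S hS using hgen
  let I := Σ x : X, Γ(M, f ⁻¹ᵁ (V x).1)
  obtain ⟨N, φ, hN, hφ⟩ := exists_isFP_sections P hP (T.sigma S : Finset I)
    (fun i => (V i.1).1) (fun i _ => (V i.1).2.isCompact) (fun i => i.2)
  have hNq := Models2.FPCoh.isQCoh_of_isFP hN
  obtain ⟨E, π, hE, hπ⟩ := hY N hNq (Models2.FPCoh.isFT_of_isFP hN)
  let ψ : (Scheme.Modules.pullback f).obj E ⟶ M :=
    ((Scheme.Modules.pullbackPushforwardAdjunction f).homEquiv E M).symm (π ≫ φ)
  have hψ : (Scheme.Modules.pullbackPushforwardAdjunction f).unit.app E ≫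
      (Scheme.Modules.pushforward f).map ψ = π ≫ φ := by
    have h1 := ((Scheme.Modules.pullbackPushforwardAdjunction f).homEquiv E M).apply_symm_apply
      (π ≫ φ)
    rwa [Adjunction.homEquiv_unit] at h1
  refine ⟨_, ψ, PerfC.PullRestrict.isFinLocFree_pullback f hE,
    FormalB.ModPowAff2.epi_of_affine_cover hM _ fun x => ?_⟩
  have hx : x ∈ ⋃ y ∈ T, ((W y).1 : Set X) := by
    rw [show (⋃ y ∈ T, ((W y).1 : Set X)) = ⊤ from hT]
    trivial
  simp only [Set.mem_iUnion] at hx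
  obtain ⟨y, hy, hxy⟩ := hx
  refine ⟨(W y).1, hxy, (W y).2, ?_⟩
  refine surjective_of_span ψ _ _ (hS y) ?_
  rintro _ ⟨m, hm, rfl⟩
  obtain ⟨t, ht⟩ := hφ ⟨y, m⟩ (Finset.mem_sigma.2 ⟨hy, hm⟩)
  obtain ⟨e, rfl⟩ := CohqB.QC5.app_surjective_of_epi π
    (PerfA.QCohEpi.isQCoh_of_isFinLocFree hE) hNq (V y).2 t
  refine ⟨res _ (hWV y) (((Scheme.Modules.pullbackPushforwardAdjunction f).unit.app E).app (V y).1 e), ?_⟩
  have h2 : ((Scheme.Modules.pullbackPushforwardAdjunction f).unit.app E ≫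
      (Scheme.Modules.pushforward f).map ψ).app (V y).1 e = (π ≫ φ).app (V y).1 e := by rw [hψ]
  have h3 : ψ.app (f ⁻¹ᵁ (V y).1) (((Scheme.Modules.pullbackPushforwardAdjunction f).unit.app E).app (V y).1 e) = m :=
    h2.trans ht
  rw [app_res, h3]

theorem hasResolutionProperty_of_isRelAmple (f : X ⟶ Y) [CompactSpace Y] [QuasiSeparatedSpace Y]
    (hY : PerfAux.HasResolutionProperty Y) (L : X.Modules) (hL : RelAmple.IsRelAmple f L) :
    PerfAux.HasResolutionProperty X := by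
  intro M hM hM'
  have := hL.1
  have := CalgB.AmpleRel.quasiSeparated_of_isRelAmple hL
  have hcX : CompactSpace X := QuasiCompact.compactSpace_of_compactSpace f
  obtain ⟨n, hn⟩ := K30.CounitGG.exists_epi_counit f hL hM hM'
  have hLi : PicF.IsInvertible L := CalgB.AmpleRel.isInvertible_of_isRelAmple hL
  have hK : PicF.IsInvertible (CohB1.tensorPow L n) := Groth.Agent.Fdesc.LocGen.isInvertible_tensorPow hLi n
  obtain ⟨hM1, hM2⟩ := Groth.Agent.Ega2.GlobGenCrit.isCoh_tensor (F := M) ⟨hM, hM'⟩ hK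
  obtain ⟨E, π, hE, hπ⟩ := exists_of_epi_counit f hY hM1 hM2 (hn n le_rfl)
  obtain ⟨K', hK', ⟨e⟩⟩ := Grpsch.PicGrp.exists_inverse hK
  let Φ := DCoh.tensorRightMod K'
  let θ : Φ.obj (CohB1.tensorMod M (CohB1.tensorPow L n)) ≅ M := (PerfB.TensInv.tensorInvIso e).app M
  refine ⟨Φ.obj E, Φ.map π ≫ θ.hom, ?_, ?_⟩
  · exact Groth.Agent.Sga67.LocBasis.isFinLocFree_tensorMod hE
      (Ega2.QCohLocal.isFinLocFree_of_rank (Ega2.QCohLocal.isFinLocFreeOfRank_one_iff.mpr hK'))
  · have : Epi (Φ.map π) := inferInstance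
    exact epi_comp _ _

end Groth.Agent.Perf.K368.ResolRelAmple
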