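import Groth.Agent.Perf.K368.TorAmpAlg
import Groth.Agent.PerfB.StalkKFlat
import Groth.Agent.Dcoh.AdPull
import Groth.Agent.PerfC.DTens
import Groth.Agent.PerfC.LTXRestr
import Groth.Agent.PerfC.LpullRestrict
import Groth.Agent.S0955
import Groth.Prelude.Def_DerSch

/-!
# Complexes of finite tor amplitude relative to a morphism, stalkwise

* `isGE_tensor` : `F ⊗ f^*P ∈ D^{≥ a}` if `F` has tor amplitude in `[a, b]` relative to `f` (stalkwise) and `P` is
  a K-flat complex on the base with `H^i(P) = 0` for `i < 0`;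
* `isGE_LTX` : `F ⊗ᴸ Lf^* M ∈ D^{≥ a}` for `M ∈ D^{≥ 0}` on the base.
-/

set_option autoImplicit false
universe u
open CategoryTheory CategoryTheory.Limits MonoidalCategory HomologicalComplex AlgebraicGeometry
attribute [local instance] HasDerivedCategory.standard

namespace Groth.Agent.Perf.K368.StalkAmp

open Groth.Agent.Dcoh.KFlatAbs Groth.Agent.Dcoh.Stalk Groth.Agent.PerfB.RingKFlat
  Groth.Agent.PerfB.StalkKFlat Groth.Agent.Fdesc.PullbackStalk

variable {X S : Scheme.{u}} (f : X ⟶ S)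

/-- The two stalk functors agree. -/
noncomputable def stalkIso (x : X) : stalkF x ≅ DerSch.stalkFunctor X x :=
  NatIso.ofComponents (fun M => Iso.refl _) (fun {M N} g => by
    ext m
    obtain ⟨U, hU, s, rfl⟩ := TopCat.Presheaf.exists_germ_eq M.presheaf m
    exact (Groth.Agent.Dcoh.FlatTor.stalkF_map_germ x g U hU s).trans
      (DerSch.stalkFunctor_map_germ x g U hU s).symm)

theorem torAmp_stalk (F : CochainComplex X.Modules ℤ) (a b : ℤ) (x : X)
    (hF : DerSch.HasTorAmplitudeAt f a b F x) :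
    letI := stalkAlg f x
    DRing.HasTorAmplitudeIn (S.presheaf.stalk (f.base x)) a b (DRing.toD
      (((res (S.presheaf.stalk (f.base x)) (X.presheaf.stalk x)).mapHomologicalComplex (ComplexShape.up ℤ)).obj
        (((stalkF x).mapHomologicalComplex (ComplexShape.up ℤ)).obj F))) := by
  let _ := stalkAlg f x
  obtain ⟨T, hT, hTf, ⟨e⟩⟩ := hF
  refine ⟨T, hT, hTf, ⟨e ≪≫ DerivedCategory.Q.mapIso ?_⟩⟩
  exact ((ModuleCat.restrictScalars (f.stalkMap x).hom).mapHomologicalComplex (ComplexShape.up ℤ)).mapIso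
    ((NatIso.mapHomologicalComplex (stalkIso x).symm (ComplexShape.up ℤ)).app F)

theorem isGE_tensor (F : CochainComplex X.Modules ℤ) (a b : ℤ) (hF : DerSch.HasTorAmplitude f a b F)
    (P : CochainComplex S.Modules ℤ) (hP : DCoh.IsKFlat P) [P.IsGE 0] :
    (DCoh.toD X ((DCoh.tensorCx.obj F).obj
      (((Scheme.Modules.pullback f).mapHomologicalComplex (ComplexShape.up ℤ)).obj P))).IsGE a := by
  rw [DerivedCategory.isGE_Q_obj_iff, CochainComplex.isGE_iff]
  intro i hi
  refine ((jointlyReflectIsos X).exact_iff (((DCoh.tensorCx.obj F).obj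
      (((Scheme.Modules.pullback f).mapHomologicalComplex (ComplexShape.up ℤ)).obj P)).sc i)).2 (fun x => ?_)
  let _ := stalkAlg f x
  have hL := kfl_stalk hP (f.base x)
  have hL0 : CochainComplex.IsGE
      (((stalkF (f.base x)).mapHomologicalComplex (ComplexShape.up ℤ)).obj P) 0 := by
    rw [CochainComplex.isGE_iff]
    intro j hj
    exact ((P.isGE_iff 0).1 inferInstance j hj).map (stalkF (f.base x))
  have h1 := TorAmpAlg.exactAt_tensor_ext (B := X.presheaf.stalk x) _ _ a b
    (torAmp_stalk f F a b x (hF x)) hL i hi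
  have e1 := (((TR (X.presheaf.stalk x)).map₂CochainComplex.obj
    (((stalkF x).mapHomologicalComplex (ComplexShape.up ℤ)).obj F)).mapIso
      ((NatIso.mapHomologicalComplex (stalkPull f x) (ComplexShape.up ℤ)).app P)) ≪≫
        stalkTensorCx x F (((Scheme.Modules.pullback f).mapHomologicalComplex (ComplexShape.up ℤ)).obj P)
  exact (exactAt_iff_of_quasiIsoAt e1.hom i).1 h1

/-- `F ⊗ᴸ Lf^* M ∈ D^{≥ a}` if `F` has tor amplitude in `[a, b]` relative to `f` and `M ∈ D^{≥ 0}`. -/
theorem isGE_LTX [DCoh.HasLpull f] (F : CochainComplex X.Modules ℤ) (a b : ℤ)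
    (hF : DerSch.HasTorAmplitude f a b F) (M : DCoh.D S) [M.IsGE 0] :
    (((Groth.Agent.PerfC.DTens.LTX X).obj (DCoh.toD X F)).obj ((DCoh.Lpull f).obj M)).IsGE a := by
  obtain ⟨P, q, hP, -, hq, -⟩ := Groth.Agent.S0955.result (DerivedCategory.Q.objPreimage M)
  have e1 : DCoh.toD S P ≅ M := (@asIso _ _ _ _ (DerivedCategory.Q.map q)
    ((DerivedCategory.isIso_Q_map_iff_quasiIso S.Modules q).2 hq)) ≪≫ DerivedCategory.Q.objObjPreimageIso M
  have h0 : P.IsGE 0 := by
    rw [← DerivedCategory.isGE_Q_obj_iff]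
    exact DerivedCategory.TStructure.t.isGE_of_iso e1.symm 0
  have h1 := isGE_tensor f F a b hF P hP
  have e2 := (PerfC.DTens.κIso' F _ (isKFlat_pullback f P hP)).symm ≪≫
    ((Groth.Agent.PerfC.DTens.LTX X).obj (DCoh.toD X F)).mapIso
      ((Dcoh.AdPull.isoQ f hP).symm ≪≫ (DCoh.Lpull f).mapIso e1)
  exact DerivedCategory.TStructure.t.isGE_of_iso e2 a

end Groth.Agent.Perf.K368.StalkAmp
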