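import Groth.Agent.PerfB.StalkKFlat
import Groth.Agent.Sga67.SelfTens
import Groth.Agent.Sga67.LocBasisOps
import Groth.Agent.PerfC.AmpleFamily
import Groth.Agent.PerfA.QCohSerre
import Groth.Agent.CohqB.FiniteType2
import Groth.Agent.Dcoh.FreeSec
import Groth.Agent.Ega1.AnnIdeal
import Groth.Agent.Ega1.FTStalkFin
import Groth.Agent.Fdesc.StalkExt

/-!
# Iterated tensor products with a finite locally free module mapping to `O_X`

Let `φ : E ⟶ O_X` be a morphism with `E` of finite type quasi-coherent.  Iterating `E ⊗ K ⟶ K` gives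
natural maps `evn φ n : E ⊗ (E ⊗ ... ⊗ K) ⟶ K`.

* `range_evn_le`: on stalks the image is contained in `I_x ^ n K_x`, where `I_x` is the image of `φ_x`;
* `surj_evn`: on stalks it is surjective where `φ` is;
* `exists_evn_eq_zero`: if `K` is quasi-coherent of finite type and vanishes where `φ` is surjective,
  then `evn φ n` is zero on `K` for some `n`.
-/

set_option autoImplicit false
universe u
open CategoryTheory CategoryTheory.Limits MonoidalCategory AlgebraicGeometry TopologicalSpace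

namespace Groth.Agent.Perf.K368.TensKill

open Groth.Agent.Dcoh.Stalk Groth.Agent.Fdesc.Skyscraper Groth.Agent.PerfB.StalkKFlat

variable {X : Scheme.{u}} {E : X.Modules} (φ : E ⟶ Coh.structureModule X)

theorem stalkMap_comp_apply {M N P : X.Modules} (f : M ⟶ N) (g : N ⟶ P) (x : X) (t : M.presheaf.stalk x) :
    stalkMap (f ≫ g) x t = stalkMap g x (stalkMap f x t) := by
  rw [← stalkF_map_hom, ← stalkF_map_hom, ← stalkF_map_hom, Functor.map_comp]
  rfl

theorem stalkMap_id_apply {M : X.Modules} (x : X) (t : M.presheaf.stalk x) : stalkMap (𝟙 M) x t = t := by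
  rw [← stalkF_map_hom, CategoryTheory.Functor.map_id]
  rfl

/-- the ideal of the local ring at `x` which is the image of `φ_x` -/
noncomputable def imx (x : X) : Ideal (X.presheaf.stalk x) :=
  LinearMap.range ((Groth.Agent.Dcoh.FreeSec.stalkUnit x).symm.toLinearMap ∘ₗ stalkMap φ x)

theorem exists_smul_one (x : X) (e : E.presheaf.stalk x) :
    ∃ r ∈ imx φ x, stalkMap φ x e = r • Groth.Agent.Dcoh.FreeSec.stalkOne x := by
  refine ⟨_, ⟨e, rfl⟩, ?_⟩
  rw [← Groth.Agent.Dcoh.FreeSec.stalkUnit_apply]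
  exact ((Groth.Agent.Dcoh.FreeSec.stalkUnit x).apply_symm_apply _).symm

theorem imx_eq_top (x : X) (h : Function.Surjective (stalkMap φ x)) : imx φ x = ⊤ := by
  rw [imx, LinearMap.range_eq_top]
  exact (Groth.Agent.Dcoh.FreeSec.stalkUnit x).symm.surjective.comp h

/-- the evaluation `E ⊗ K ⟶ K` -/
noncomputable def ev : DCoh.tensorBi.obj E ⟶ 𝟭 X.Modules :=
  DCoh.tensorBi.map φ ≫ (Groth.Agent.Sga67.SelfTens.unitTensIso X).hom

theorem ev_app (K : X.Modules) : (ev φ).app K = (DCoh.tensorBi.map φ).app K ≫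
    (Groth.Agent.Sga67.SelfTens.unitTensIso X).hom.app K := rfl

theorem mem_smul_top (K : X.Modules) (x : X) (t : ↑((stalkF x).obj E ⊗ (stalkF x).obj K)) :
    ((stalkF x).map φ ▷ (stalkF x).obj K).hom t ∈
      imx φ x • (⊤ : Submodule (X.presheaf.stalk x)
        ↑((stalkF x).obj (Coh.structureModule X) ⊗ (stalkF x).obj K)) := by
  induction t using TensorProduct.induction_on with
  | zero => rw [map_zero]; exact zero_mem _
  | add a b ha hb => rw [map_add]; exact add_mem ha hb
  | tmul e k =>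
    obtain ⟨r, hr, h⟩ := exists_smul_one φ x e
    have h1 : ((stalkF x).map φ ▷ (stalkF x).obj K).hom (e ⊗ₜ k) =
      (TensorProduct.tmul (X.presheaf.stalk x) (stalkMap φ x e) k :
        TensorProduct (X.presheaf.stalk x) ((Coh.structureModule X).presheaf.stalk x) (K.presheaf.stalk x)) := by
      rw [← stalkF_map_hom]
      rfl
    rw [h1, h]
    rw [← TensorProduct.smul_tmul']
    exact Submodule.smul_mem_smul hr trivial

theorem range_ev_le (K : X.Modules) (x : X) :
    LinearMap.range (stalkMap ((ev φ).app K) x) ≤ imx φ x • (⊤ : Submodule _ (K.presheaf.stalk x)) := by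
  rintro _ ⟨z, rfl⟩
  rw [ev_app, stalkMap_comp_apply]
  set w := stalkMap ((DCoh.tensorBi.map φ).app K) x z with hw
  have h1 : (tensorStalkIso (Coh.structureModule X) K x).hom.hom w =
      ((stalkF x).map φ ▷ (stalkF x).obj K).hom ((tensorStalkIso E K x).hom.hom z) := by
    have := congrArg (fun f => f.hom z) (tensorStalkIso_naturality_left (N := K) φ x)
    rw [hw, ← stalkF_map_hom]
    exact this
  have h2 : w = (tensorStalkIso (Coh.structureModule X) K x).inv.hom
      (((stalkF x).map φ ▷ (stalkF x).obj K).hom ((tensorStalkIso E K x).hom.hom z)) := by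
    rw [← h1]
    exact (Iso.hom_inv_id_apply (tensorStalkIso (Coh.structureModule X) K x) w).symm
  have h3 := mem_smul_top φ K x ((tensorStalkIso E K x).hom.hom z)
  have h4 := Submodule.mem_map_of_mem (f := (stalkMap ((Groth.Agent.Sga67.SelfTens.unitTensIso X).hom.app K) x) ∘ₗ
    (tensorStalkIso (Coh.structureModule X) K x).inv.hom) h3
  rw [Submodule.map_smul''] at h4
  rw [h2]
  exact Submodule.smul_mono le_rfl le_top h4

theorem surj_ev (K : X.Modules) (x : X) (h : Function.Surjective (stalkMap φ x)) :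
    Function.Surjective (stalkMap ((ev φ).app K) x) := by
  have h1 : Function.Surjective (stalkMap ((DCoh.tensorBi.map φ).app K) x) := by
    intro w
    have h2 : Function.Surjective ((stalkF x).map φ ▷ (stalkF x).obj K).hom := by
      refine LinearMap.rTensor_surjective (K.presheaf.stalk x) (g := ((stalkF x).map φ).hom) ?_
      rw [stalkF_map_hom]
      exact h
    obtain ⟨z', hz'⟩ := h2 ((tensorStalkIso (Coh.structureModule X) K x).hom.hom w)
    refine ⟨(tensorStalkIso E K x).inv.hom z', ?_⟩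
    have h3 := congrArg (fun f => f.hom ((tensorStalkIso E K x).inv.hom z'))
      (tensorStalkIso_naturality_left (N := K) φ x)
    have h4 : (tensorStalkIso E K x).hom.hom ((tensorStalkIso E K x).inv.hom z') = z' :=
      Iso.inv_hom_id_apply (tensorStalkIso E K x) z'
    have h5 : (tensorStalkIso (Coh.structureModule X) K x).hom.hom
        (((stalkF x).map ((DCoh.tensorBi.map φ).app K)).hom ((tensorStalkIso E K x).inv.hom z')) =
        (tensorStalkIso (Coh.structureModule X) K x).hom.hom w := by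
      refine Eq.trans h3 ?_
      change ((stalkF x).map φ ▷ (stalkF x).obj K).hom
        ((tensorStalkIso E K x).hom.hom ((tensorStalkIso E K x).inv.hom z')) = _
      rw [h4, hz']
    have h6 := congrArg (tensorStalkIso (Coh.structureModule X) K x).inv.hom h5
    have h7 : ∀ v, (tensorStalkIso (Coh.structureModule X) K x).inv.hom
      ((tensorStalkIso (Coh.structureModule X) K x).hom.hom v) = v := fun v =>
      Iso.hom_inv_id_apply (tensorStalkIso (Coh.structureModule X) K x) v
    rw [h7, h7] at h6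
    rw [← stalkF_map_hom]
    exact h6
  have h8 : Function.Surjective (stalkMap ((Groth.Agent.Sga67.SelfTens.unitTensIso X).hom.app K) x) := by
    intro w
    refine ⟨stalkMap ((Groth.Agent.Sga67.SelfTens.unitTensIso X).inv.app K) x w, ?_⟩
    rw [← stalkMap_comp_apply, Iso.inv_hom_id_app]
    exact stalkMap_id_apply x w
  intro w
  obtain ⟨v, hv⟩ := h8 w
  obtain ⟨z, hz⟩ := h1 v
  exact ⟨z, by rw [ev_app, stalkMap_comp_apply, hz, hv]⟩

/-- `K ↦ E ⊗ (E ⊗ ... ⊗ K)` -/
noncomputable def Tn (E : X.Modules) : ℕ → X.Modules ⥤ X.Modules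
  | 0 => 𝟭 _
  | n + 1 => Tn E n ⋙ DCoh.tensorBi.obj E

/-- `E ⊗ (E ⊗ ... ⊗ K) ⟶ K` -/
noncomputable def evn : ∀ n : ℕ, Tn E n ⟶ 𝟭 X.Modules
  | 0 => 𝟙 _
  | n + 1 => Functor.whiskerLeft (Tn E n) (ev φ) ≫ evn n

theorem evn_succ_app (n : ℕ) (K : X.Modules) :
    (evn φ (n + 1)).app K = (ev φ).app ((Tn E n).obj K) ≫ (evn φ n).app K := rfl

theorem stalkMap_evn_succ (n : ℕ) (K : X.Modules) (x : X) (z : ((Tn E (n + 1)).obj K).presheaf.stalk x) :
    stalkMap ((evn φ (n + 1)).app K) x z =
      stalkMap ((evn φ n).app K) x (stalkMap ((ev φ).app ((Tn E n).obj K)) x z) :=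
  stalkMap_comp_apply ((ev φ).app ((Tn E n).obj K)) ((evn φ n).app K) x z

theorem range_evn_le (n : ℕ) (K : X.Modules) (x : X) :
    LinearMap.range (stalkMap ((evn φ n).app K) x) ≤
      imx φ x ^ n • (⊤ : Submodule _ (K.presheaf.stalk x)) := by
  induction n with
  | zero => rw [pow_zero, Ideal.one_eq_top, Submodule.top_smul]; exact le_top
  | succ n ih =>
    rintro _ ⟨z, rfl⟩
    rw [stalkMap_evn_succ]
    have h1 := Submodule.mem_map_of_mem (f := stalkMap ((evn φ n).app K) x)
      (range_ev_le φ ((Tn E n).obj K) x ⟨z, rfl⟩)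
    rw [Submodule.map_smul'', Submodule.map_top] at h1
    rw [pow_succ', mul_smul]
    exact Submodule.smul_mono le_rfl ih h1

theorem surj_evn (n : ℕ) (K : X.Modules) (x : X) (h : Function.Surjective (stalkMap φ x)) :
    Function.Surjective (stalkMap ((evn φ n).app K) x) := by
  induction n with
  | zero =>
    intro w
    exact ⟨w, stalkMap_id_apply x w⟩
  | succ n ih =>
    intro w
    obtain ⟨v, hv⟩ := ih w
    obtain ⟨z, hz⟩ := surj_ev φ ((Tn E n).obj K) x h v
    exact ⟨z, by rw [stalkMap_evn_succ, hz, hv]⟩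

theorem isFinLocFree_Tn (hE : FlatMod.IsFinLocFree E) (n : ℕ) {G : X.Modules}
    (hG : FlatMod.IsFinLocFree G) : FlatMod.IsFinLocFree ((Tn E n).obj G) := by
  induction n with
  | zero => exact hG
  | succ n ih => exact Groth.Agent.Sga67.LocBasis.isFinLocFree_tensorMod hE ih

instance (n : ℕ) : PreservesFiniteColimits (Tn E n) := by
  induction n with
  | zero => exact inferInstanceAs (PreservesFiniteColimits (𝟭 X.Modules))
  | succ n ih => exact comp_preservesFiniteColimits _ _

section Kill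

variable (hE : Coh.IsQCoh E) (hEf : CohB1.IsFT E)

/-- the values of `φ` on sections, as functions -/
noncomputable def fnOf (V : X.Opens) (e : Γ(E, V)) : Γ(X, V) := φ.app V e

theorem germ_fnOf (V : X.Opens) (e : Γ(E, V)) (x : X) (hx : x ∈ V) :
    stalkMap φ x (E.presheaf.germ V x hx e) =
      X.presheaf.germ V x hx (fnOf φ V e) • Groth.Agent.Dcoh.FreeSec.stalkOne x := by
  rw [stalkMap_germ, ← Groth.Agent.Dcoh.FreeSec.germ_unit]
  rfl

theorem germ_fnOf_mem (V : X.Opens) (e : Γ(E, V)) (x : X) (hx : x ∈ V) :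
    X.presheaf.germ V x hx (fnOf φ V e) ∈ imx φ x := by
  refine ⟨E.presheaf.germ V x hx e, ?_⟩
  rw [LinearMap.comp_apply, germ_fnOf, ← Groth.Agent.Dcoh.FreeSec.stalkUnit_apply]
  exact (Groth.Agent.Dcoh.FreeSec.stalkUnit x).symm_apply_apply _

/-- the ideal of functions on `V` generated by the values of `φ` -/
noncomputable def imV (V : X.Opens) : Ideal Γ(X, V) := Ideal.span (Set.range (fnOf φ V))

theorem fnOf_add (V : X.Opens) (a b : Γ(E, V)) : fnOf φ V (a + b) = fnOf φ V a + fnOf φ V b :=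
  map_add (φ.app V).hom a b

theorem fnOf_smul (V : X.Opens) (r : Γ(X, V)) (a : Γ(E, V)) : fnOf φ V (r • a) = r * fnOf φ V a :=
  Scheme.Modules.Hom.app_smul φ r a

theorem fnOf_zero (V : X.Opens) : fnOf φ V 0 = 0 := map_zero (φ.app V).hom

include hE hEf in
theorem fg_imV {V : X.Opens} (hV : IsAffineOpen V) : (imV φ V).FG := by
  classical
  have : Coh.IsQCoh E := hE
  have hfin : Module.Finite Γ(X, V) Γ(E, V) :=
    Groth.Agent.CohqB.FiniteType2.finite_sections_of_isFT E hEf hV
  obtain ⟨s, hs⟩ := Module.finite_def.mp hfin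
  refine ⟨s.image (fnOf φ V), le_antisymm (Ideal.span_mono ?_) (Ideal.span_le.mpr ?_)⟩
  · rw [Finset.coe_image]
    exact Set.image_subset_range _ _
  · rintro _ ⟨e, rfl⟩
    have he : e ∈ Submodule.span Γ(X, V) (s : Set Γ(E, V)) := by rw [hs]; trivial
    induction he using Submodule.span_induction with
    | mem t ht => exact Ideal.subset_span (by rw [Finset.coe_image]; exact ⟨t, ht, rfl⟩)
    | zero => rw [fnOf_zero]; exact zero_mem _
    | add a b _ _ ha hb => rw [fnOf_add]; exact add_mem ha hb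
    | smul r a _ ha => rw [fnOf_smul]; exact Ideal.mul_mem_left _ _ ha

include hE in
theorem imx_le {V : X.Opens} (hV : IsAffineOpen V) (x : X) (hx : x ∈ V) :
    imx φ x ≤ (imV φ V).map (X.presheaf.germ V x hx).hom := by
  rintro _ ⟨m, rfl⟩
  obtain ⟨g, t, hxg, ht⟩ := Groth.Agent.Fdesc.QCohStalk.exists_germ_eq_smul E hV hE x hx m
  have hu : IsUnit (X.presheaf.germ V x hx g) := (X.mem_basicOpen g x hx).mp hxg
  obtain ⟨v, hv⟩ := hu.exists_left_inv
  have h1 : m = v • E.presheaf.germ V x hx t := by rw [ht, smul_smul, hv, one_smul]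
  rw [h1, LinearMap.comp_apply, map_smul, germ_fnOf, ← Groth.Agent.Dcoh.FreeSec.stalkUnit_apply,
    LinearEquiv.coe_coe, map_smul, LinearEquiv.symm_apply_apply]
  exact Ideal.mul_mem_left _ _ (Ideal.mem_map_of_mem _ (Ideal.subset_span ⟨t, rfl⟩))

include hE hEf in
/-- `I_x ^ n` kills a module of finite type which vanishes where `φ` is surjective. -/
theorem exists_pow_smul [CompactSpace X] {K : X.Modules} (hK : Coh.IsQCoh K) (hKf : CohB1.IsFT K)
    (h0 : ∀ x : X, imx φ x = ⊤ → Subsingleton (K.presheaf.stalk x)) :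
    ∃ n : ℕ, ∀ x : X, imx φ x ^ n • (⊤ : Submodule (X.presheaf.stalk x) (K.presheaf.stalk x)) = ⊥ := by
  obtain ⟨s, hs⟩ := IsOpenCover.exists_finite_of_compactSpace (iSup_affineOpens_eq_top X)
  have key : ∀ V : X.affineOpens, ∃ n : ℕ, imV φ V.1 ^ n ≤ Module.annihilator Γ(X, V.1) Γ(K, V.1) := by
    intro V
    have : Coh.IsQCoh K := hK
    have : Module.Finite Γ(X, V.1) Γ(K, V.1) :=
      Groth.Agent.CohqB.FiniteType2.finite_sections_of_isFT K hKf V.2
    refine Ideal.exists_pow_le_of_le_radical_of_fg (Ideal.span_le.mpr ?_) (fg_imV φ hE hEf V.2)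
    rintro _ ⟨e, rfl⟩
    obtain ⟨n, hn⟩ := Groth.Agent.Ega1.AnnIdeal.exists_pow_mul_mem_annihilator (N := Γ(K, V.1)) (fnOf φ V.1 e) 1
      (fun k => by
        rw [one_smul]
        refine Groth.Agent.Fdesc.QCohStalk.exists_pow_smul_eq_zero K V.2 hK (fnOf φ V.1 e) k ?_
        refine Groth.Agent.Ega1.FTStalkFin.section_ext K _ _ _ fun x hx => ?_
        have hxV : x ∈ V.1 := X.basicOpen_le _ hx
        have hu : IsUnit (X.presheaf.germ V.1 x hxV (fnOf φ V.1 e)) := (X.mem_basicOpen _ x hxV).mp hx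
        have := h0 x (Ideal.eq_top_of_isUnit_mem _ (germ_fnOf_mem φ V.1 e x hxV) hu)
        exact Subsingleton.elim _ _)
    exact ⟨n, by rwa [mul_one] at hn⟩
  choose n hn using key
  refine ⟨s.sup n, fun x => ?_⟩
  obtain ⟨V, hVs, hxV⟩ : ∃ V ∈ s, x ∈ V.1 := by
    have hx : x ∈ (⨆ i : s, (i.1 : X.affineOpens).1) := by rw [hs]; trivial
    obtain ⟨i, hi⟩ := Opens.mem_iSup.mp hx
    exact ⟨i.1, i.2, hi⟩
  rw [eq_bot_iff]
  refine (Submodule.smul_mono_left (Ideal.pow_le_pow_right (Finset.le_sup (f := n) hVs))).trans ?_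
  refine (Submodule.smul_mono_left (Ideal.pow_right_mono (imx_le φ hE V.2 x hxV) (n V))).trans ?_
  rw [← Ideal.map_pow]
  refine (Submodule.smul_mono_left (Ideal.map_mono (hn V))).trans ?_
  have h1 : (Module.annihilator Γ(X, V.1) Γ(K, V.1)).map (X.presheaf.germ V.1 x hxV).hom ≤
      Module.annihilator (X.presheaf.stalk x) (K.presheaf.stalk x) := by
    rw [Ideal.map_le_iff_le_comap]
    intro a ha
    rw [Ideal.mem_comap, Module.mem_annihilator]
    intro m
    obtain ⟨g, t, hxg, ht⟩ := Groth.Agent.Fdesc.QCohStalk.exists_germ_eq_smul K V.2 hK x hxV m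
    have hu : IsUnit (X.presheaf.germ V.1 x hxV g) := (X.mem_basicOpen g x hxV).mp hxg
    obtain ⟨v, hv⟩ := hu.exists_left_inv
    have h1 : m = v • K.presheaf.germ V.1 x hxV t := by rw [ht, smul_smul, hv, one_smul]
    have h2 : (X.presheaf.germ V.1 x hxV a) • K.presheaf.germ V.1 x hxV t = 0 := by
      rw [← Groth.Agent.Fdesc.QCohStalk.germ_smul', Module.mem_annihilator.mp ha t, map_zero]
    change (X.presheaf.germ V.1 x hxV a) • m = 0
    rw [h1, smul_comm, h2, smul_zero]
  refine Submodule.smul_le.mpr fun r hr m _ => ?_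
  rw [Module.mem_annihilator.mp (h1 hr) m]
  exact zero_mem _

include hE hEf in
/-- The iterated evaluation is zero on a module of finite type which vanishes where `φ` is
surjective. -/
theorem exists_evn_eq_zero [CompactSpace X] {K : X.Modules} (hK : Coh.IsQCoh K) (hKf : CohB1.IsFT K)
    (h0 : ∀ x : X, imx φ x = ⊤ → Subsingleton (K.presheaf.stalk x)) :
    ∃ n : ℕ, (evn φ n).app K = 0 := by
  obtain ⟨n, hn⟩ := exists_pow_smul φ hE hEf hK hKf h0
  refine ⟨n, Groth.Agent.Fdesc.StalkExt.hom_ext_stalk _ _ fun x t => ?_⟩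
  have h1 := range_evn_le φ n K x ⟨t, rfl⟩
  have h2 : imx φ x ^ n • (⊤ : Submodule (X.presheaf.stalk x) (((𝟭 X.Modules).obj K).presheaf.stalk x)) = ⊥ :=
    hn x
  rw [h2, Submodule.mem_bot] at h1
  rw [h1, ← stalkF_map_hom, CategoryTheory.Functor.map_zero]
  rfl

end Kill

end Groth.Agent.Perf.K368.TensKill
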