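import Groth.Agent.Dual.H352.RelPerf
import Groth.Agent.Dual.H316.RelFlatTilde
import Groth.Agent.Models2.TorDimRel
import Groth.Agent.PerfB.RingKFlat
import Groth.Agent.Dcoh.LeftRes

/-!
# Relative flat amplitude of `M~` on `Spec A` and tor amplitude of `M` over `R`

For `R → A` flat, `K ∈ D(A)`: `K~` has relative flat amplitude in `[a, b]` over `Spec R` iff `K` has tor
amplitude in `[a, b]` over `R` (`hasRelFlatAmplitudeIn_tildeD_iff`); absolute version
`hasFlatAmplitudeIn_tildeD_iff`.
-/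

set_option autoImplicit false

universe u

open CategoryTheory CategoryTheory.Limits AlgebraicGeometry

attribute [local instance] HasDerivedCategory.standard

namespace K368.TildeAmp

open Groth.Agent Groth.Agent.Dual.H352.RelPerf Groth.Agent.Dual.H352.RelOpc Groth.Agent.PerfA.TildeModel

variable {R A : Type u} [CommRing R] [CommRing A] [Algebra R A] [Module.Flat R A]
  [PreservesFiniteLimits (tilde.functor (CommRingCat.of A))]

theorem hasTorAmplitudeIn_of_tildeD (a b : ℤ) (k : Dual.D A)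
    (h : DCoh.HasRelFlatAmplitudeIn (Spec.map (CommRingCat.ofHom (algebraMap R A))) a b
      ((DCoh.tildeD (CommRingCat.of A)).obj k)) :
    DRing.HasTorAmplitudeIn R a b ((DRing.restrictD (algebraMap R A)).obj k) := by
  -- a bounded above projective model
  obtain ⟨K₀, ⟨e₀⟩⟩ : ∃ K₀ : CochainComplex (ModuleCat.{u} A) ℤ,
      Nonempty (DerivedCategory.Q.obj K₀ ≅ k) := ⟨_, ⟨DerivedCategory.Q.objObjPreimageIso k⟩⟩
  have e₁ : (DCoh.tildeD (CommRingCat.of A)).obj k ≅
      DerivedCategory.Q.obj ((tildeCx (CommRingCat.of A)).obj K₀) :=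
    S1004.tildeQIso (CommRingCat.of A) K₀ k e₀
  have hLE : K₀.IsLE b := by
    rw [CochainComplex.isLE_iff]
    intro i hi
    obtain ⟨E', h1, -, ⟨e'⟩⟩ := h
    refine exactAt_of_tildeCx (CommRingCat.of A) K₀ i ?_
    exact exactAt_of_iso (e₁.symm ≪≫ e'.symm) i (HomologicalComplex.ExactAt.of_isZero (h1 i (Or.inr hi)))
  obtain ⟨E, p, hE, hEp, hp⟩ := Dcoh.LeftRes.exists_resolution_of_isLE
    (PerfB.RingKFlat.goodClass_projective A) K₀ b
  have e : DerivedCategory.Q.obj E ≅ k := asIso (DerivedCategory.Q.map p) ≪≫ e₀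
  have hflat : ∀ i, Module.Flat A (E.X i) := fun i => by
    have := hEp i
    have : Module.Projective A (E.X i) := (IsProjective.iff_projective (E.X i)).2 this
    infer_instance
  have hE0 : ∀ i, b < i → IsZero (E.X i) := fun i hi => E.isZero_of_isStrictlyLE b i hi
  have e2 : DerivedCategory.Q.obj ((tildeCx (CommRingCat.of A)).obj E) ≅
      (DCoh.tildeD (CommRingCat.of A)).obj k := (S1004.tildeQIso (CommRingCat.of A) E k e).symm
  have hfl := isFlatOver_opcycles h ((tildeCx (CommRingCat.of A)).obj E) b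
    (fun i hi => (tilde.functor (CommRingCat.of A)).map_isZero (hE0 i hi))
    (fun i => (isFlatOver_tilde_iff (E.X i)).2 (flat_restrict (hflat i))) e2
  have hex : ∀ i, i < a → E.ExactAt i := fun i hi =>
    exactAt_of_tildeCx (CommRingCat.of A) E i
      (exactAt_of_hasRelFlatAmplitudeIn h ((tildeCx (CommRingCat.of A)).obj E) e2 i hi)
  have e3 := tildeOpcycles (CommRingCat.of A) E a
  have h3 : Module.Flat R ((ModuleCat.restrictScalars (algebraMap R A)).obj (E.opcycles a)) :=
    (isFlatOver_tilde_iff (E.opcycles a)).1 (PerfC.RelFlat.isFlatOver_of_iso _ e3 hfl)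
  obtain ⟨h', hha⟩ : ∃ h : ℤ, h + 1 = a := ⟨a - 1, by omega⟩
  refine hasTorAmplitudeIn_of_iso
    ((Flat2C.TorAmpRestr.restrictIso (algebraMap R A) E).symm ≪≫
      (DRing.restrictD (algebraMap R A)).mapIso e)
    (hasTorAmplitudeIn_of_flat_cok _ a b h' hha ?_ ?_ ?_ ?_)
  · exact fun i hi => (ModuleCat.restrictScalars (algebraMap R A)).map_isZero (hE0 i hi)
  · exact fun i hi => (Flat2C.TorAmpRestr.exactAt_restrict_iff (algebraMap R A) E i).2 (hex i hi)
  · exact fun i => flat_restrict (hflat i)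
  · exact (flat_cok_restrictCx_iff E hha).2 h3

theorem hasRelFlatAmplitudeIn_tildeD_iff (a b : ℤ) (k : Dual.D A) :
    DCoh.HasRelFlatAmplitudeIn (Spec.map (CommRingCat.ofHom (algebraMap R A))) a b
      ((DCoh.tildeD (CommRingCat.of A)).obj k) ↔
    DRing.HasTorAmplitudeIn R a b ((DRing.restrictD (algebraMap R A)).obj k) := by
  refine ⟨hasTorAmplitudeIn_of_tildeD a b k, fun h => ?_⟩
  have h1 := Dual.H316.RelFlatTilde.hasRelFlatAmplitudeIn_tildeD
    (𝟙 (Spec (CommRingCat.of R))) a b k h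
  rwa [Category.comp_id] at h1

section Absolute

variable (A : Type u) [CommRing A] [PreservesFiniteLimits (tilde.functor (CommRingCat.of A))]

theorem hasFlatAmplitudeIn_tildeD_iff (M : Dual.D A) (a b : ℤ) :
    DCoh.HasFlatAmplitudeIn a b ((DCoh.tildeD (CommRingCat.of A)).obj M) ↔
      DRing.HasTorAmplitudeIn A a b M := by
  have hid : Spec.map (CommRingCat.ofHom (algebraMap A A)) = 𝟙 (Spec (CommRingCat.of A)) :=
    Spec.map_id _
  have hflat : ∀ N : ModuleCat.{u} A,
      Module.Flat A ((ModuleCat.restrictScalars (algebraMap A A)).obj N) ↔ Module.Flat A N :=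
    fun N => Iff.rfl
  constructor
  · intro h
    have h1 : DCoh.HasRelFlatAmplitudeIn (Spec.map (CommRingCat.ofHom (algebraMap A A))) a b
        ((DCoh.tildeD (CommRingCat.of A)).obj M) := by
      rw [hid]
      exact (Models2.TorDimRel.hasFlatAmplitudeIn_iff_rel (𝟙 _) a b _).2 h
    obtain ⟨E, h2, h3, h4⟩ := Dual.H316.RelFlatTilde.exists_rep_of_restrict (algebraMap A A)
      (RingHom.Flat.id A) a b M (hasTorAmplitudeIn_of_tildeD a b M h1)
    exact ⟨E, h2, fun i => (hflat _).1 (h3 i), h4⟩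
  · rintro ⟨E, h2, h3, ⟨e⟩⟩
    refine ⟨(tildeCx (CommRingCat.of A)).obj E,
      fun i hi => (tilde.functor (CommRingCat.of A)).map_isZero (h2 i hi), fun i => ?_,
      ⟨(S1004.tildeQIso (CommRingCat.of A) E M e).symm⟩⟩
    have h5 := (isFlatOver_tilde_iff (R := A) (E.X i)).2 ((hflat _).2 (h3 i))
    rw [hid] at h5
    exact (Models2.TorDimRel.isFlatOver_iff (𝟙 _) _).1 h5

end Absolute

end K368.TildeAmp
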