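import Groth.Agent.PerfB.RingKFlat
import Groth.Agent.Dcoh.KFlatFlip
import Groth.Prelude.Def_DRing2

/-!
# Tensoring a complex of finite tor amplitude with a K-flat complex

* `exactAt_tensor` : if `K` has tor amplitude in `[a, b]`, `L` is K-flat and `H^i(L) = 0` for `i < 0`, then
  `H^i(K ⊗ L) = 0` for `i < a`;
* `exactAt_tensor_ext` : the same over `B` after restriction of `K` to `A`, `L` replaced by `B ⊗_A L`.
-/

set_option autoImplicit false
universe u
open CategoryTheory CategoryTheory.Limits MonoidalCategory HomologicalComplex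
attribute [local instance] HasDerivedCategory.standard

namespace Groth.Agent.Perf.K368.TorAmpAlg

open Groth.Agent.Dcoh.KFlatAbs Groth.Agent.Dcoh.KFlatSingle Groth.Agent.Dcoh.KFlatBdd
  Groth.Agent.PerfB.RingKFlat Groth.Agent.Dcoh.KFlatFlip

variable {A : Type u} [CommRing A]

/-- Bounded above complexes of flat modules are K-flat, in the first variable. -/
lemma kfl_flip_of_flat (F : CochainComplex (ModuleCat.{u} A) ℤ) (b : ℤ) [F.IsStrictlyLE b]
    (hF : ∀ j, Module.Flat A (F.X j)) : KFl (TR A).flip F := by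
  have h1 : ∀ M : ModuleCat.{u} A, PreservesColimitsOfShape ℕ ((TR A).flip.obj M) := by
    intro M
    have : PreservesColimitsOfShape ℕ (tensorLeft M) := inferInstance
    exact preservesColimitsOfShape_of_natIso (BraidedCategory.tensorLeftIsoTensorRight M)
  have h3 := hasExactColimitsOfShape_nat A
  refine kfl_of_isStrictlyLE F b (fun n => ?_)
  exact preservesHomology_tensorLeft _ (hF n)

lemma isZero_tensor_X (T L : CochainComplex (ModuleCat.{u} A) ℤ) (a n : ℤ) (hn : n < a)
    (hT : ∀ i, i < a → IsZero (T.X i)) (hL : ∀ i, i < 0 → IsZero (L.X i)) :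
    IsZero ((((TR A).map₂CochainComplex.obj T).obj L).X n) := by
  rw [IsZero.iff_id_eq_zero]
  apply HomologicalComplex.mapBifunctor.hom_ext
  intro p q h
  refine IsZero.eq_of_src ?_ _ _
  have h' : p + q = n := h
  rcases lt_or_ge p a with hp | hp
  · exact ((TR A).flip.obj (L.X q)).map_isZero (hT p hp)
  · exact ((TR A).obj (T.X p)).map_isZero (hL q (by omega))

theorem exactAt_tensor_of_flat (T L : CochainComplex (ModuleCat.{u} A) ℤ) (a b : ℤ)
    (hT : ∀ i, i < a → IsZero (T.X i)) (hTb : ∀ i, b < i → IsZero (T.X i))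
    (hTf : ∀ i, Module.Flat A (T.X i)) [L.IsGE 0] (i : ℤ) (hi : i < a) :
    (((TR A).map₂CochainComplex.obj T).obj L).ExactAt i := by
  have : T.IsStrictlyLE b := by
    rw [CochainComplex.isStrictlyLE_iff]
    exact fun i hi => hTb i hi
  have h1 := kfl_flip_of_flat T b hTf
  have h2 : QuasiIso (L.πTruncGE 0) := (L.quasiIso_πTruncGE_iff 0).2 inferInstance
  have h3 : QuasiIso (((TR A).map₂CochainComplex.obj T).map (L.πTruncGE 0)) := quasiIso_of_kfl_flip h1 _
  rw [exactAt_iff_of_quasiIsoAt (((TR A).map₂CochainComplex.obj T).map (L.πTruncGE 0)) i]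
  rw [HomologicalComplex.exactAt_iff_isZero_homology]
  exact ShortComplex.isZero_homology_of_isZero_X₂ _ (isZero_tensor_X T _ a i hi hT
    (fun i hi => (L.truncGE 0).isZero_of_isStrictlyGE 0 i hi))

/-- K-flat complexes tensor isomorphisms in the derived category. -/
theorem nonempty_tensorIso {L : CochainComplex (ModuleCat.{u} A) ℤ} (hL : KFl (TR A) L)
    {K K' : CochainComplex (ModuleCat.{u} A) ℤ}
    (e : DerivedCategory.Q.obj K ≅ DerivedCategory.Q.obj K') :
    Nonempty (DerivedCategory.Q.obj (((TR A).map₂CochainComplex.obj K).obj L) ≅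
      DerivedCategory.Q.obj (((TR A).map₂CochainComplex.obj K').obj L)) := by
  let F : CochainComplex (ModuleCat.{u} A) ℤ ⥤ DerivedCategory (ModuleCat.{u} A) :=
    (TR A).map₂CochainComplex.flip.obj L ⋙ DerivedCategory.Q
  have hF : (HomologicalComplex.quasiIso (ModuleCat.{u} A) (ComplexShape.up ℤ)).IsInvertedBy F := by
    intro X Y f hf
    have : QuasiIso f := hf
    have h1 : QuasiIso (((TR A).map₂CochainComplex.map f).app L) := hL.quasiIso f
    exact (DerivedCategory.isIso_Q_map_iff_quasiIso (C := ModuleCat.{u} A) (((TR A).map₂CochainComplex.map f).app L)).2 h1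
  let G := Localization.lift F hF DerivedCategory.Q
  let c := Localization.fac F hF DerivedCategory.Q
  exact ⟨(c.app K).symm ≪≫ G.mapIso e ≪≫ c.app K'⟩

theorem exactAt_iff_isZero (K : CochainComplex (ModuleCat.{u} A) ℤ) (i : ℤ) : K.ExactAt i ↔
    IsZero ((DerivedCategory.homologyFunctor (ModuleCat.{u} A) i).obj (DerivedCategory.Q.obj K)) := by
  rw [HomologicalComplex.exactAt_iff_isZero_homology]
  exact ((DerivedCategory.homologyFunctorFactors (ModuleCat.{u} A) i).app K).isZero_iff.symm

theorem exactAt_tensor (K L : CochainComplex (ModuleCat.{u} A) ℤ) (a b : ℤ)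
    (hK : DRing.HasTorAmplitudeIn A a b (DRing.toD K)) (hL : KFl (TR A) L) [L.IsGE 0] (i : ℤ) (hi : i < a) :
    (((TR A).map₂CochainComplex.obj K).obj L).ExactAt i := by
  obtain ⟨T, hT, hTf, ⟨e⟩⟩ := hK
  obtain ⟨e'⟩ := nonempty_tensorIso hL e
  have h1 := exactAt_tensor_of_flat T L a b (fun i hi => hT i (Or.inl hi)) (fun i hi => hT i (Or.inr hi))
    hTf i hi
  rw [exactAt_iff_isZero] at h1 ⊢
  exact h1.of_iso ((DerivedCategory.homologyFunctor _ i).mapIso e'.symm)

section BaseChange

variable {B : Type u} [CommRing B] [Algebra A B]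

theorem exactAt_tensor_ext (K : CochainComplex (ModuleCat.{u} B) ℤ) (L : CochainComplex (ModuleCat.{u} A) ℤ)
    (a b : ℤ)
    (hK : DRing.HasTorAmplitudeIn A a b (DRing.toD (((res A B).mapHomologicalComplex (ComplexShape.up ℤ)).obj K)))
    (hL : KFl (TR A) L) [L.IsGE 0] (i : ℤ) (hi : i < a) :
    (((TR B).map₂CochainComplex.obj K).obj (((ext A B).mapHomologicalComplex (ComplexShape.up ℤ)).obj L)).ExactAt i := by
  have h1 := exactAt_tensor _ L a b hK hL i hi
  refine (res A B).reflects_exact_of_faithful ((((TR B).map₂CochainComplex.obj K).obj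
    (((ext A B).mapHomologicalComplex (ComplexShape.up ℤ)).obj L)).sc i) ?_
  have h2 : (((res A B).mapHomologicalComplex (ComplexShape.up ℤ)).obj
      (((TR B).map₂CochainComplex.obj K).obj
        (((ext A B).mapHomologicalComplex (ComplexShape.up ℤ)).obj L))).ExactAt i :=
    (exactAt_iff_of_quasiIsoAt (Groth.Agent.PerfB.BifCompare.iso (cbcData A B) K L).hom i).1 h1
  exact h2

end BaseChange

end Groth.Agent.Perf.K368.TorAmpAlg
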